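import Groth.Agent.TorStalk41.Stalk
import Groth.Agent.DCK91.LpullKFlat
import Groth.Agent.DerComp18.LTensor
import Groth.Agent.QC70.UnitSub

/-!
Stalkwise tor amplitude of composites, derived inverse images and derived tensor products.
-/

set_option autoImplicit false
set_option linter.style.haveILetI false
set_option linter.unusedSectionVars false

noncomputable section

universe u

open CategoryTheory CategoryTheory.Limits AlgebraicGeometry MonoidalCategory
open Groth.Agent.DR39 Groth.Agent.DCK91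

attribute [local instance] HasDerivedCategory.standard

namespace Groth.Agent.TorStalk41

variable {X Y Z : Scheme.{u}}

/-- The stalk of the structure module. -/
def stalkUnitIso (x : X) : (DCK91.SP x).obj (Coh.structureModule X) ≅
    ModuleCat.of (X.presheaf.stalk x) (X.presheaf.stalk x) :=
  (LinearEquiv.toModuleIso (QC70.unitStalkEquiv x)).symm

/-- The stalk of the structure sheaf in degree zero. -/
def stalkUnitCxIso (x : X) : (DCK91.SPc x).obj (DerSch.unitCx X) ≅ 𝟙_ (DRing.Cx (X.presheaf.stalk x)) :=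
  (HomologicalComplex.singleMapHomologicalComplex (DCK91.SP x) (ComplexShape.up ℤ) 0).app (Coh.structureModule X) ≪≫
    (HomologicalComplex.single _ (ComplexShape.up ℤ) 0).mapIso (stalkUnitIso x)

/-- The stalks of a derived inverse image, on a representative. -/
def stalkPullCxIso (f : X ⟶ Y) (x : X) (P : CochainComplex Y.Modules ℤ) :
    extCx (f.stalkMap x).hom ((DCK91.SPc (f.base x)).obj P) ≅
      (DCK91.SPc x).obj (((Scheme.Modules.pullback f).mapHomologicalComplex (ComplexShape.up ℤ)).obj P) :=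
  (NatIso.mapHomologicalComplex (pullStalkIso f x) (ComplexShape.up ℤ)).app P

theorem ta_unit_of_hasTorDimLE {g : Y ⟶ Z} {n : ℕ} (hg : DerSch.HasTorDimLE g n) (y : Y) :
    TA (-(n : ℤ)) 0 ((QA _).obj (resCx (g.stalkMap y).hom (𝟙_ (DRing.Cx (Y.presheaf.stalk y))))) :=
  TA.of_iso (hg y) ((QA _).mapIso ((DRing.restrictCx (g.stalkMap y).hom).mapIso (stalkUnitCxIso y)))

theorem ta_inD_of_hasTorDimLE {g : Y ⟶ Z} {n : ℕ} (hg : DerSch.HasTorDimLE g n) (y : Y) :
    TA (-(n : ℤ)) 0 (Dual.inD (Z.presheaf.stalk (g.base y)) ((ModuleCat.restrictScalars (g.stalkMap y).hom).obj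
      (ModuleCat.of (Y.presheaf.stalk y) (Y.presheaf.stalk y)))) :=
  TA.of_iso (hg y) ((QA _).mapIso ((HomologicalComplex.singleMapHomologicalComplex (SO g y) (ComplexShape.up ℤ) 0).app
      (Coh.structureModule Y) ≪≫
      (HomologicalComplex.single _ (ComplexShape.up ℤ) 0).mapIso
        ((ModuleCat.restrictScalars (g.stalkMap y).hom).mapIso (stalkUnitIso y))) ≪≫
    ((SingleFunctors.evaluation _ _ 0).mapIso (DerivedCategory.singleFunctorsPostcompQIso _)).symm.app _)

/-- Tor amplitude relative to a composite. -/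
theorem hasTorAmplitude_comp (f : X ⟶ Y) (g : Y ⟶ Z) (h : X ⟶ Z) (w : f ≫ g = h) {n : ℕ}
    (hg : DerSch.HasTorDimLE g n) {F : CochainComplex X.Modules ℤ} {a b : ℤ}
    (hF : DerSch.HasTorAmplitude f a b F) : DerSch.HasTorAmplitude h (a - n) b F := by
  subst w
  intro x
  exact TA.mono (ta_res_comp (g.stalkMap (f.base x)).hom (f.stalkMap x).hom ((f ≫ g).stalkMap x).hom
    (by rw [Scheme.Hom.stalkMap_comp]; rfl) ((DCK91.SPc x).obj F)
    (ta_inD_of_hasTorDimLE hg (f.base x)) (hF x)) (by omega) (by simp)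

/-- A K-flat resolution. -/
theorem exists_kflat_rep (G : CochainComplex Y.Modules ℤ) :
    ∃ P : CochainComplex Y.Modules ℤ, DCoh.IsKFlat P ∧ Nonempty (DCoh.toD Y P ≅ DCoh.toD Y G) := by
  obtain ⟨P, p, hP, -, hp, -⟩ := Mod48.exists_resolution (O := Y.sheaf) G
  exact ⟨P, hP, ⟨@asIso _ _ _ _ (DerivedCategory.Q.map (C := CochainComplex Y.Modules ℤ) p)
    ((DerivedCategory.isIso_Q_map_iff_quasiIso Y.Modules p).2 hp)⟩⟩

/-- Tor amplitude of a derived inverse image. -/
theorem hasTorAmplitudeD_Lpull (f : X ⟶ Y) (g : Y ⟶ Z) (h : X ⟶ Z) (w : f ≫ g = h) {m : ℕ}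
    (hf : DerSch.HasTorDimLE f m) [DCoh.HasLpull f] {G : CochainComplex Y.Modules ℤ} {c d : ℤ}
    (hG : DerSch.HasTorAmplitude g c d G) :
    DerSch.HasTorAmplitudeD h (c - m) d ((DCoh.Lpull f).obj (DCoh.toD Y G)) := by
  subst w
  obtain ⟨P, hP, ⟨e⟩⟩ := exists_kflat_rep G
  obtain ⟨e'⟩ := nonempty_lpullIso f P hP
  refine hasTorAmplitudeD_of_rep _ _ (e'.symm ≪≫ (DCoh.Lpull f).mapIso e) fun x => ?_
  refine TA.of_iso (TA.mono (ta_res_ext (g.stalkMap (f.base x)).hom (f.stalkMap x).hom ((f ≫ g).stalkMap x).hom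
    (by rw [Scheme.Hom.stalkMap_comp]; rfl) ((DCK91.SPc (f.base x)).obj P)
    (ta_unit_of_hasTorDimLE hf x) (isKFlat_stalk hP _) (hasTorAmplitude_congr g e.symm hG (f.base x)))
    (by omega) (by omega)) ?_
  exact (QA _).mapIso ((DRing.restrictCx ((f ≫ g).stalkMap x).hom).mapIso (stalkPullCxIso f x P))

/-- The derived tensor product on a K-flat representative. -/
theorem nonempty_ltensorIso (F E : CochainComplex X.Modules ℤ) [h : DCoh.HasLTensorCx F] (hE : DCoh.IsKFlat E) :
    Nonempty ((DCoh.LTensorCx F).obj (DerivedCategory.Q.obj E) ≅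
      DerivedCategory.Q.obj ((DCoh.tensorCx.obj E).obj F)) := by
  haveI : ModSite.HasLTensorCx (O := X.sheaf) F := h
  exact ⟨@asIso _ _ _ _ ((DerComp18.ltCounit (O := X.sheaf) F).app E)
    (DerComp18.isIso_ltCounit (O := X.sheaf) F E hE)⟩

/-- Tor amplitudes add in a derived tensor product with a derived inverse image. -/
theorem hasTorAmplitudeD_ltensor_Lpull (f : X ⟶ Y) (g : Y ⟶ Z) (h : X ⟶ Z) (w : f ≫ g = h)
    {F : CochainComplex X.Modules ℤ} {a b : ℤ} (hF : DerSch.HasTorAmplitude f a b F)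
    {G : CochainComplex Y.Modules ℤ} {c d : ℤ} (hG : DerSch.HasTorAmplitude g c d G)
    [DCoh.HasLpull f] [DCoh.HasLTensorCx F] :
    DerSch.HasTorAmplitudeD h (a + c) (b + d)
      ((DCoh.LTensorCx F).obj ((DCoh.Lpull f).obj (DCoh.toD Y G))) := by
  subst w
  obtain ⟨P, hP, ⟨e⟩⟩ := exists_kflat_rep G
  obtain ⟨e'⟩ := nonempty_lpullIso f P hP
  obtain ⟨e''⟩ := nonempty_ltensorIso F _ (isKFlat_pullback f P hP)
  refine hasTorAmplitudeD_of_rep _ _ (e''.symm ≪≫ (DCoh.LTensorCx F).mapIso (e'.symm ≪≫ (DCoh.Lpull f).mapIso e))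
    fun x => ?_
  obtain ⟨s⟩ := stalkTotIso x (((Scheme.Modules.pullback f).mapHomologicalComplex (ComplexShape.up ℤ)).obj P) F
  refine TA.of_iso (ta_res_tensor_ext (g.stalkMap (f.base x)).hom (f.stalkMap x).hom ((f ≫ g).stalkMap x).hom
    (by rw [Scheme.Hom.stalkMap_comp]; rfl) ((DCK91.SPc x).obj F) ((DCK91.SPc (f.base x)).obj P)
    (hF x) (isKFlat_stalk hP _) (hasTorAmplitude_congr g e.symm hG (f.base x))) ?_
  exact (QA _).mapIso ((DRing.restrictCx ((f ≫ g).stalkMap x).hom).mapIso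
    (MonoidalCategory.whiskerLeftIso _ (stalkPullCxIso f x P) ≪≫ asIso (symm' _ _) ≪≫ s))

end Groth.Agent.TorStalk41
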