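import Groth.Agent.DR39.KFlatBC
import Groth.Agent.DR39.ResTensor
import Mathlib.RingTheory.IsTensorProduct

/-!
Extension of scalars in a pushout square of rings; tor amplitude under tor-independent base change.
-/

set_option autoImplicit false
set_option linter.style.haveILetI false
set_option linter.unusedSectionVars false

noncomputable section

universe u

open CategoryTheory CategoryTheory.Limits MonoidalCategory
open scoped TensorProduct ChangeOfRings

attribute [local instance] HasDerivedCategory.standard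

namespace Groth.Agent.TorStalk41

variable {R R' B B' : Type u} [CommRing R] [CommRing R'] [CommRing B] [CommRing B']
  (φ : R →+* B) (ρ : R →+* R') (ψ : B →+* B') (σ : R' →+* B') (h : ψ.comp φ = σ.comp ρ)

/-- The map `m ↦ 1 ⊗ m`. -/
def bcUnit (M : ModuleCat.{u} B) : (ModuleCat.restrictScalars φ).obj M ⟶
    (ModuleCat.restrictScalars ρ).obj ((ModuleCat.restrictScalars σ).obj
      ((ModuleCat.extendScalars.{u, u, u} ψ).obj M)) :=
  (ModuleCat.restrictScalars φ).map ((ModuleCat.extendRestrictScalarsAdj.{u, u, u} ψ).unit.app M) ≫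
    (ModuleCat.restrictScalarsComp'App φ ψ (σ.comp ρ) h.symm _).inv ≫
      (ModuleCat.restrictScalarsComp'App ρ σ (σ.comp ρ) rfl _).hom

/-- The comparison map of the square. -/
def bcHom (M : ModuleCat.{u} B) :
    (ModuleCat.extendScalars.{u, u, u} ρ).obj ((ModuleCat.restrictScalars φ).obj M) ⟶
      (ModuleCat.restrictScalars σ).obj ((ModuleCat.extendScalars.{u, u, u} ψ).obj M) :=
  ((ModuleCat.extendRestrictScalarsAdj.{u, u, u} ρ).homEquiv _ _).symm (bcUnit φ ρ ψ σ h M)

theorem bcUnit_natural {M N : ModuleCat.{u} B} (g : M ⟶ N) :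
    (ModuleCat.restrictScalars φ).map g ≫ bcUnit φ ρ ψ σ h N = bcUnit φ ρ ψ σ h M ≫
      (ModuleCat.restrictScalars ρ).map ((ModuleCat.restrictScalars σ).map
        ((ModuleCat.extendScalars.{u, u, u} ψ).map g)) :=
  ModuleCat.hom_ext (LinearMap.ext fun _ => rfl)

theorem bcHom_natural {M N : ModuleCat.{u} B} (g : M ⟶ N) :
    (ModuleCat.extendScalars.{u, u, u} ρ).map ((ModuleCat.restrictScalars φ).map g) ≫ bcHom φ ρ ψ σ h N =
      bcHom φ ρ ψ σ h M ≫ (ModuleCat.restrictScalars σ).map ((ModuleCat.extendScalars.{u, u, u} ψ).map g) := by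
  rw [bcHom, bcHom, ← Adjunction.homEquiv_naturality_left_symm, bcUnit_natural φ ρ ψ σ h g,
    Adjunction.homEquiv_naturality_right_symm]

/-- The square is a pushout. -/
def Push : Prop :=
  letI := φ.toAlgebra; letI := ρ.toAlgebra; letI := ψ.toAlgebra; letI := σ.toAlgebra
  letI : Algebra R B' := (σ.comp ρ).toAlgebra
  haveI : IsScalarTower R R' B' := IsScalarTower.of_algebraMap_eq' rfl
  haveI : IsScalarTower R B B' := IsScalarTower.of_algebraMap_eq' h.symm
  Algebra.IsPushout R R' B B'

theorem isIso_bcHom (hp : Push φ ρ ψ σ h) (M : ModuleCat.{u} B) : IsIso (bcHom φ ρ ψ σ h M) := by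
  letI := φ.toAlgebra; letI := ρ.toAlgebra; letI := ψ.toAlgebra; letI := σ.toAlgebra
  letI : Algebra R B' := (σ.comp ρ).toAlgebra
  haveI : IsScalarTower R R' B' := IsScalarTower.of_algebraMap_eq' rfl
  haveI : IsScalarTower R B B' := IsScalarTower.of_algebraMap_eq' h.symm
  haveI : Algebra.IsPushout R R' B B' := hp
  letI : Module R M := Module.compHom M φ
  haveI : IsScalarTower R B M := IsScalarTower.of_algebraMap_smul fun _ _ => rfl
  let e := (Algebra.IsPushout.cancelBaseChange R R' B B' M).symm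
  rw [ConcreteCategory.isIso_iff_bijective]
  suffices (fun z => bcHom φ ρ ψ σ h M z) = e by
    change Function.Bijective (fun z => bcHom φ ρ ψ σ h M z)
    rw [this]
    exact e.bijective
  funext z
  induction z using TensorProduct.induction_on with
  | zero => exact (map_zero (bcHom φ ρ ψ σ h M).hom).trans (map_zero e).symm
  | add a b ha hb => exact (map_add (bcHom φ ρ ψ σ h M).hom a b).trans ((congrArg₂ (· + ·) ha hb).trans (map_add e a b).symm)
  | tmul r m =>
    refine Eq.trans ?_ (Algebra.IsPushout.cancelBaseChange_symm_tmul R R' B B' M r m).symm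
    show (σ r * 1) ⊗ₜ[B] m = σ r ⊗ₜ[B] m
    rw [mul_one]

/-- Extension of scalars in a pushout square commutes with restriction. -/
def bcIso (hp : Push φ ρ ψ σ h) :
    ModuleCat.restrictScalars φ ⋙ ModuleCat.extendScalars.{u, u, u} ρ ≅
      ModuleCat.extendScalars.{u, u, u} ψ ⋙ ModuleCat.restrictScalars σ :=
  haveI := isIso_bcHom φ ρ ψ σ h hp
  NatIso.ofComponents (fun M => asIso (bcHom φ ρ ψ σ h M)) fun g => bcHom_natural φ ρ ψ σ h g

open Groth.Agent.DR39

/-- The comparison for complexes. -/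
def bcCxIso (hp : Push φ ρ ψ σ h) (X : DRing.Cx B) : extCx ρ (resCx φ X) ≅ resCx σ (extCx ψ X) :=
  (NatIso.mapHomologicalComplex (bcIso φ ρ ψ σ h hp) (ComplexShape.up ℤ)).app X

/-- Restriction along a flat map preserves K-flatness. -/
theorem isKFlat_resCx (hφ : φ.Flat) {X : DRing.Cx B} (hX : DRing.IsKFlat B X) : DRing.IsKFlat R (resCx φ X) := by
  intro M hM i
  haveI : PreservesFiniteLimits (ModuleCat.extendScalars.{u, u, u} φ) := preservesFiniteLimits_extendScalars φ hφ
  haveI : PreservesFiniteColimits (ModuleCat.extendScalars.{u, u, u} φ) :=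
    haveI := (ModuleCat.extendRestrictScalarsAdj.{u, u, u} φ).leftAdjoint_preservesColimits
    inferInstance
  have h0 : ∀ j, IsZero ((extCx φ M).homology j) := fun j => by
    refine IsZero.of_iso ((ModuleCat.extendScalars.{u, u, u} φ).map_isZero (hM j)) ?_
    exact (M.sc j).mapHomologyIso (ModuleCat.extendScalars.{u, u, u} φ)
  have h1 : IsZero ((extCx φ M ⊗ X).homology i) := hX _ h0 i
  have h2 : IsZero ((X ⊗ extCx φ M).homology i) :=
    h1.of_iso ((HomologicalComplex.homologyFunctor _ _ i).mapIso (asIso (symm' X (extCx φ M))))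
  exact ((isZero_res_tensor_iff φ X M i).2 h2).of_iso
    ((HomologicalComplex.homologyFunctor _ _ i).mapIso (asIso (symm' M (resCx φ X))))

/-- Base change of a quasi-isomorphism between complexes which are K-flat over the base of the square. -/
theorem quasiIso_ext_of_kflat_base (hp : Push φ ρ ψ σ h) {U V : DRing.Cx B}
    (hU : DRing.IsKFlat R (resCx φ U)) (hV : DRing.IsKFlat R (resCx φ V)) (f : U ⟶ V) [QuasiIso f] :
    QuasiIso (((ModuleCat.extendScalars.{u, u, u} ψ).mapHomologicalComplex (ComplexShape.up ℤ)).map f) := by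
  haveI : QuasiIso ((DRing.restrictCx φ).map f) :=
    (HomologicalComplex.quasiIso_map_iff_of_preservesHomology f (ModuleCat.restrictScalars φ)).2 inferInstance
  haveI := quasiIso_extendScalars_of_kflat ρ hU hV ((DRing.restrictCx φ).map f)
  let τ := NatIso.mapHomologicalComplex (bcIso φ ρ ψ σ h hp) (ComplexShape.up ℤ)
  haveI : QuasiIso (((ModuleCat.extendScalars.{u, u, u} ψ ⋙ ModuleCat.restrictScalars σ).mapHomologicalComplex
      (ComplexShape.up ℤ)).map f) :=
    quasiIso_of_arrow_mk_iso (((ModuleCat.extendScalars.{u, u, u} ρ).mapHomologicalComplex (ComplexShape.up ℤ)).map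
      ((DRing.restrictCx φ).map f)) _
      (Arrow.isoMk (τ.app U) (τ.app V) (τ.hom.naturality f).symm)
  exact (HomologicalComplex.quasiIso_map_iff_of_preservesHomology _ (ModuleCat.restrictScalars σ)).1 this

/-- Tor amplitude under base change along a tor-independent pushout. -/
theorem ta_ext_of_kflat_base (hp : Push φ ρ ψ σ h) (hφ : φ.Flat) (Y : DRing.Cx B)
    (hY : DRing.IsKFlat R (resCx φ Y)) {a b : ℤ} (hYt : TA a b ((QA B).obj Y)) :
    TA a b ((QA B').obj (extCx ψ Y)) := by
  obtain ⟨F, hFv, hF, ⟨e⟩⟩ := hYt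
  have hFk : DRing.IsKFlat B F := isKFlat_of_flat b (fun j hj => hFv j (Or.inr hj)) hF
  haveI := SF.isKProjective_res Y
  haveI : IsIso ((QA B).map (SF.aug Y)) :=
    (DerivedCategory.isIso_Q_map_iff_quasiIso (ModuleCat.{u} B) _).2 inferInstance
  obtain ⟨f, hf⟩ := Q_map_surjective (SF.res Y) F ((QA B).map (SF.aug Y) ≫ e.inv)
  haveI : QuasiIso f := (DerivedCategory.isIso_Q_map_iff_quasiIso (ModuleCat.{u} B) f).1 (by
    rw [hf]; infer_instance)
  have hP : DRing.IsKFlat B (SF.res Y) := isKFlat_of_isKProjective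
  have h1 := quasiIso_ext_of_kflat_base φ ρ ψ σ h hp (isKFlat_resCx φ hφ hP) hY (SF.aug Y)
  have h2 := quasiIso_ext_of_kflat_base φ ρ ψ σ h hp (isKFlat_resCx φ hφ hP) (isKFlat_resCx φ hφ hFk) f
  exact ⟨extCx ψ F, fun j hj => (ModuleCat.extendScalars.{u, u, u} ψ).map_isZero (hFv j hj),
    fun j => flat_extendScalars ψ (hF j),
    ⟨(@asIso _ _ _ _ _ ((DerivedCategory.isIso_Q_map_iff_quasiIso (ModuleCat.{u} B') _).2 h2)).symm ≪≫
      @asIso _ _ _ _ _ ((DerivedCategory.isIso_Q_map_iff_quasiIso (ModuleCat.{u} B') _).2 h1)⟩⟩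

end Groth.Agent.TorStalk41
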