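import Groth.Agent.TorStalk41.Algebra
import Groth.Agent.TorStalk41.BaseChange
import Groth.Agent.DR39.BC

/-!
Tor amplitude of external tensor products over a base, at the level of rings.
-/

set_option autoImplicit false
set_option linter.style.haveILetI false
set_option linter.unusedSectionVars false

noncomputable section

universe u

open CategoryTheory CategoryTheory.Limits MonoidalCategory
open scoped TensorProduct

attribute [local instance] HasDerivedCategory.standard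

namespace Groth.Agent.TorStalk41

open Groth.Agent.DR39

section General

variable {A B C : Type u} [CommRing A] [CommRing B] [CommRing C]

/-- Extension along a composite. -/
def extCompIso (f : C →+* B) (g : B →+* A) (χ : C →+* A) (h : g.comp f = χ) (P : DRing.Cx C) :
    extCx χ P ≅ extCx g (extCx f P) :=
  eqToIso (show extCx χ P = extCx (g.comp f) P by rw [h]) ≪≫
    (NatIso.mapHomologicalComplex (ModuleCat.extendScalarsComp f g) (ComplexShape.up ℤ)).app P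

theorem isKFlat_of_iso {P Q : DRing.Cx A} (e : P ≅ Q) (h : DRing.IsKFlat A P) : DRing.IsKFlat A Q :=
  fun M hM i => (h M hM i).of_iso
    ((HomologicalComplex.homologyFunctor _ _ i).mapIso (MonoidalCategory.whiskerLeftIso M e.symm))

/-- The tensor product with a K-flat complex on the derived category. -/
theorem nonempty_tensor_iso {X Y : DRing.Cx B} (e : (QA B).obj X ≅ (QA B).obj Y) {W : DRing.Cx B}
    (hW : DRing.IsKFlat B W) : Nonempty ((QA B).obj (X ⊗ W) ≅ (QA B).obj (Y ⊗ W)) := by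
  haveI := SF.isKProjective_res X
  haveI : IsIso ((QA B).map (SF.aug X)) :=
    (DerivedCategory.isIso_Q_map_iff_quasiIso (ModuleCat.{u} B) _).2 inferInstance
  obtain ⟨f, hf⟩ := Q_map_surjective (SF.res X) Y ((QA B).map (SF.aug X) ≫ e.hom)
  haveI : QuasiIso f := (DerivedCategory.isIso_Q_map_iff_quasiIso (ModuleCat.{u} B) f).1 (by
    rw [hf]; infer_instance)
  haveI := quasiIso_whiskerRight hW (SF.aug X)
  haveI := quasiIso_whiskerRight hW f
  exact ⟨(@asIso _ _ _ _ ((QA B).map (SF.aug X ▷ W))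
    ((DerivedCategory.isIso_Q_map_iff_quasiIso (ModuleCat.{u} B) _).2 inferInstance)).symm ≪≫
    @asIso _ _ _ _ ((QA B).map (f ▷ W))
      ((DerivedCategory.isIso_Q_map_iff_quasiIso (ModuleCat.{u} B) _).2 inferInstance)⟩

/-- Flat base change of tor amplitude. -/
theorem ta_ext_of_flat (ρ : B →+* A) (hρ : ρ.Flat) (Y : DRing.Cx B) {a b : ℤ} (h : TA a b ((QA B).obj Y)) :
    TA a b ((QA A).obj (extCx ρ Y)) := by
  haveI : PreservesFiniteLimits (ModuleCat.extendScalars.{u, u, u} ρ) := preservesFiniteLimits_extendScalars ρ hρ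
  haveI : PreservesFiniteColimits (ModuleCat.extendScalars.{u, u, u} ρ) :=
    haveI := (ModuleCat.extendRestrictScalarsAdj.{u, u, u} ρ).leftAdjoint_preservesColimits
    inferInstance
  exact TA.of_iso ((ta_iff_rep a b _).2 (((ta_iff_rep a b _).1 h).map (ModuleCat.extendScalars.{u, u, u} ρ)
    fun _ hM => flat_extendScalars _ hM)) (DFQ _ Y)

theorem isIso_counit_of_epi (j : B →+* A)
    (hepi : ∀ (S : Type u) [CommRing S] (φ ψ : A →+* S), φ.comp j = ψ.comp j → φ = ψ) (Y : ModuleCat.{u} A) :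
    IsIso ((ModuleCat.extendRestrictScalarsAdj.{u, u, u} j).counit.app Y) := by
  letI := j.toAlgebra
  letI : Module B Y := Module.compHom Y j
  haveI : IsScalarTower B A Y := IsScalarTower.of_algebraMap_smul fun _ _ => rfl
  have e : ∀ t : A, t ⊗ₜ[B] (1 : A) = (1 : A) ⊗ₜ[B] t := fun t => DFunLike.congr_fun (hepi (A ⊗[B] A)
    Algebra.TensorProduct.includeLeftRingHom (Algebra.TensorProduct.includeRight : A →ₐ[B] A ⊗[B] A).toRingHom
    (RingHom.ext fun d => by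
      show (algebraMap B A d) ⊗ₜ[B] (1 : A) = (1 : A) ⊗ₜ[B] (algebraMap B A d)
      rw [Algebra.algebraMap_eq_smul_one, TensorProduct.smul_tmul])) t
  have e2 : ∀ (s : A) (y : Y), s ⊗ₜ[B] y = (1 : A) ⊗ₜ[B] (s • y) := fun s y => by
    let l : A →ₗ[B] Y := (LinearMap.toSpanSingleton A Y y).restrictScalars B
    have h := congrArg (l.lTensor A) (e s)
    simpa [l] using h
  rw [ConcreteCategory.isIso_iff_bijective]
  refine Function.bijective_iff_has_inverse.2 ⟨fun y => (1 : A) ⊗ₜ[B] y, fun z => ?_, fun y => ?_⟩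
  · induction z using TensorProduct.induction_on with
    | zero => exact (congrArg ((1 : A) ⊗ₜ[B] ·) (map_zero _)).trans (TensorProduct.tmul_zero _ _)
    | add a b ha hb =>
      exact (congrArg ((1 : A) ⊗ₜ[B] ·) (map_add _ a b)).trans ((TensorProduct.tmul_add _ _ _).trans
        (congrArg₂ (· + ·) ha hb))
    | tmul s y => exact (e2 s y).symm
  · show (1 : A) • y = y
    exact one_smul A y

/-- Tor amplitude descends to a flat ring epimorphism. -/
theorem ta_of_res_epi (j : B →+* A) (hj : j.Flat)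
    (hepi : ∀ (S : Type u) [CommRing S] (φ ψ : A →+* S), φ.comp j = ψ.comp j → φ = ψ)
    (Z : DRing.Cx A) {a b : ℤ} (h : TA a b ((QA B).obj (resCx j Z))) : TA a b ((QA A).obj Z) := by
  haveI := fun Y => isIso_counit_of_epi j hepi Y
  haveI : IsIso (ModuleCat.extendRestrictScalarsAdj.{u, u, u} j).counit := NatIso.isIso_of_isIso_app _
  exact (ta_ext_of_flat j hj _ h).of_iso ((QA A).mapIso
    ((NatIso.mapHomologicalComplex (asIso (ModuleCat.extendRestrictScalarsAdj.{u, u, u} j).counit)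
      (ComplexShape.up ℤ)).app Z ≪≫ (Functor.mapHomologicalComplexIdIso _ _).app Z))

/-- A flat algebra has tor amplitude zero. -/
theorem ta_res_unit_of_flat (ι : B →+* A) (hι : ι.Flat) :
    TA 0 0 ((QA B).obj (resCx ι (𝟙_ (DRing.Cx A)))) := by
  refine ⟨resCx ι (𝟙_ (DRing.Cx A)), fun i hi => (ModuleCat.restrictScalars ι).map_isZero
    (HomologicalComplex.isZero_single_obj_X (ComplexShape.up ℤ) 0 _ i (by omega)), fun i => ?_, ⟨Iso.refl _⟩⟩
  refine flat_res ι hι ((𝟙_ (DRing.Cx A)).X i) ?_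
  by_cases hi : i = 0
  · subst hi
    exact Module.Flat.of_linearEquiv
      (HomologicalComplex.singleObjXSelf (ComplexShape.up ℤ) 0 (ModuleCat.of A A)).toLinearEquiv
  · exact flat_of_isZero _ (HomologicalComplex.isZero_single_obj_X (ComplexShape.up ℤ) 0 _ i hi)
where
  flat_of_isZero (M : ModuleCat.{u} A) (h : IsZero M) : Module.Flat A M :=
    haveI := ModuleCat.subsingleton_of_isZero h
    haveI : Module.Free A M := Module.Free.of_subsingleton A M
    inferInstance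
  flat_res {A B : Type u} [CommRing A] [CommRing B] (φ : A →+* B) (hφ : φ.Flat) (M : ModuleCat.{u} B)
      (hM : Module.Flat B M) : Module.Flat A ((ModuleCat.restrictScalars φ).obj M) := by
    letI : Algebra A B := φ.toAlgebra
    letI : Module A M := Module.compHom M φ
    haveI : IsScalarTower A B M := IsScalarTower.of_algebraMap_smul fun _ _ => rfl
    haveI : Module.Flat A B := hφ
    haveI := hM
    exact Module.Flat.trans A B M

end General

section PushOf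

variable {R R' B B' : Type u} [CommRing R] [CommRing R'] [CommRing B] [CommRing B']

/-- A pushout square of algebras is a pushout square of ring maps. -/
theorem push_of (φ : R →+* B) (ρ : R →+* R') (ψ : B →+* B') (σ : R' →+* B') (h : ψ.comp φ = σ.comp ρ)
    [i₁ : Algebra R B] [i₂ : Algebra R R'] [i₃ : Algebra B B'] [i₄ : Algebra R' B'] [i₅ : Algebra R B']
    [IsScalarTower R R' B'] [IsScalarTower R B B'] (h₁ : algebraMap R B = φ) (h₂ : algebraMap R R' = ρ)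
    (h₃ : algebraMap B B' = ψ) (h₄ : algebraMap R' B' = σ) (hp : Algebra.IsPushout R R' B B') :
    Push φ ρ ψ σ h := by
  obtain rfl : i₁ = φ.toAlgebra := Algebra.algebra_ext _ _ fun r => DFunLike.congr_fun h₁ r
  obtain rfl : i₂ = ρ.toAlgebra := Algebra.algebra_ext _ _ fun r => DFunLike.congr_fun h₂ r
  obtain rfl : i₃ = ψ.toAlgebra := Algebra.algebra_ext _ _ fun r => DFunLike.congr_fun h₃ r
  obtain rfl : i₄ = σ.toAlgebra := Algebra.algebra_ext _ _ fun r => DFunLike.congr_fun h₄ r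
  obtain rfl : i₅ = (σ.comp ρ).toAlgebra := Algebra.algebra_ext _ _ fun r =>
    @IsScalarTower.algebraMap_apply R R' B' _ _ _ ρ.toAlgebra σ.toAlgebra i₅ ‹_› r
  exact hp

end PushOf

section Extern

variable {R A₁ A₂ B₁ B₂ A B : Type u} [CommRing R] [CommRing A₁] [CommRing A₂] [CommRing B₁] [CommRing B₂]
  [CommRing A] [CommRing B] [Algebra R A₁] [Algebra R A₂] [Algebra R B₁] [Algebra R B₂]
  [Algebra B₁ A₁] [Algebra B₂ A₂] [IsScalarTower R B₁ A₁] [IsScalarTower R B₂ A₂]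

/-- `B₁ ⊗ B₂ → A₁ ⊗ B₂`. -/
def μMap : B₁ ⊗[R] B₂ →+* A₁ ⊗[R] B₂ :=
  (Algebra.TensorProduct.map (IsScalarTower.toAlgHom R B₁ A₁) (AlgHom.id R B₂)).toRingHom

/-- `A₁ ⊗ B₂ → A₁ ⊗ A₂`. -/
def νMap : A₁ ⊗[R] B₂ →+* A₁ ⊗[R] A₂ :=
  (Algebra.TensorProduct.map (AlgHom.id R A₁) (IsScalarTower.toAlgHom R B₂ A₂)).toRingHom

theorem μ_left (x : B₁) : μMap (R := R) (A₁ := A₁) (B₂ := B₂) (x ⊗ₜ 1) = algebraMap B₁ A₁ x ⊗ₜ 1 := by
  simp [μMap]

theorem μ_right (y : B₂) : μMap (R := R) (A₁ := A₁) (B₁ := B₁) (1 ⊗ₜ y) = (1 : A₁) ⊗ₜ[R] y := by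
  simp [μMap]

theorem ν_left (x : A₁) : νMap (R := R) (A₂ := A₂) (B₂ := B₂) (x ⊗ₜ 1) = x ⊗ₜ 1 := by simp [νMap]

theorem ν_right (y : B₂) : νMap (R := R) (A₁ := A₁) (A₂ := A₂) (1 ⊗ₜ y) = (1 : A₁) ⊗ₜ algebraMap B₂ A₂ y := by
  simp [νMap]

/-- The right inclusion into a tensor product. -/
abbrev incR (S T : Type u) [CommRing S] [CommRing T] [Algebra R S] [Algebra R T] : T →+* S ⊗[R] T :=
  (Algebra.TensorProduct.includeRight : T →ₐ[R] S ⊗[R] T).toRingHom

/-- The left inclusion into a tensor product. -/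
abbrev incL (S T : Type u) [CommRing S] [CommRing T] [Algebra R S] [Algebra R T] : S →+* S ⊗[R] T :=
  Algebra.TensorProduct.includeLeftRingHom

theorem sq₁ : (incL (R := R) A₁ B₂).comp (algebraMap B₁ A₁) = μMap.comp (incL (R := R) B₁ B₂) :=
  RingHom.ext fun x => (μ_left x).symm

theorem sq₂ : (incR (R := R) A₁ A₂).comp (algebraMap B₂ A₂) = νMap.comp (incR (R := R) A₁ B₂) :=
  RingHom.ext fun y => (ν_right y).symm

theorem push₁ : Push (algebraMap B₁ A₁) (incL (R := R) B₁ B₂) (incL (R := R) A₁ B₂) μMap sq₁ := by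
  letI : Algebra (B₁ ⊗[R] B₂) (A₁ ⊗[R] B₂) := μMap.toAlgebra
  haveI : IsScalarTower B₁ (B₁ ⊗[R] B₂) (A₁ ⊗[R] B₂) := IsScalarTower.of_algebraMap_eq fun x => (μ_left x).symm
  have ht : IsScalarTower B₁ (B₁ ⊗[R] B₂) (A₁ ⊗[R] B₂) := inferInstance
  have h : Algebra.IsPushout B₁ A₁ (B₁ ⊗[R] B₂) (A₁ ⊗[R] B₂) :=
    @Algebra.IsPushout.tensorProduct_tensorProduct R B₂ B₁ A₁ _ _ _ _ _ _ _ _ _ μMap.toAlgebra ht
      (RingHom.ext fun y => μ_right (A₁ := A₁) (B₁ := B₁) y)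
  exact push_of _ _ _ _ _ rfl rfl rfl rfl h.symm

theorem push₂ : Push (algebraMap B₂ A₂) (incR (R := R) A₁ B₂) (incR (R := R) A₁ A₂) νMap sq₂ := by
  letI : Algebra B₂ (A₁ ⊗[R] B₂) := (incR (R := R) A₁ B₂).toAlgebra
  letI : Algebra A₂ (A₁ ⊗[R] A₂) := (incR (R := R) A₁ A₂).toAlgebra
  letI : Algebra (A₁ ⊗[R] B₂) (A₁ ⊗[R] A₂) := νMap.toAlgebra
  letI : Algebra B₂ (A₁ ⊗[R] A₂) := (νMap.comp (incR (R := R) A₁ B₂)).toAlgebra
  haveI : IsScalarTower B₂ (A₁ ⊗[R] B₂) (A₁ ⊗[R] A₂) := IsScalarTower.of_algebraMap_eq' rfl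
  haveI : IsScalarTower B₂ A₂ (A₁ ⊗[R] A₂) := IsScalarTower.of_algebraMap_eq fun y => ν_right y
  haveI : IsScalarTower R B₂ (A₁ ⊗[R] B₂) := IsScalarTower.of_algebraMap_eq fun r =>
    ((Algebra.TensorProduct.includeRight : B₂ →ₐ[R] A₁ ⊗[R] B₂).commutes r).symm
  haveI : IsScalarTower R A₂ (A₁ ⊗[R] A₂) := IsScalarTower.of_algebraMap_eq fun r =>
    ((Algebra.TensorProduct.includeRight : A₂ →ₐ[R] A₁ ⊗[R] A₂).commutes r).symm
  haveI : IsScalarTower R (A₁ ⊗[R] B₂) (A₁ ⊗[R] A₂) := IsScalarTower.of_algebraMap_eq fun r =>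
    ((Algebra.TensorProduct.map (AlgHom.id R A₁) (IsScalarTower.toAlgHom R B₂ A₂)).commutes r).symm
  haveI : IsScalarTower A₁ (A₁ ⊗[R] B₂) (A₁ ⊗[R] A₂) := IsScalarTower.of_algebraMap_eq fun x => (ν_left x).symm
  haveI : IsScalarTower R B₂ (A₁ ⊗[R] A₂) := IsScalarTower.of_algebraMap_eq fun r => by
    rw [IsScalarTower.algebraMap_apply R A₂ (A₁ ⊗[R] A₂), IsScalarTower.algebraMap_apply R B₂ A₂,
      ← IsScalarTower.algebraMap_apply B₂ A₂]
  have hsq : Algebra.IsPushout R B₂ A₁ (A₁ ⊗[R] B₂) := by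
    refine Algebra.IsPushout.symm ?_
    exact ⟨TensorProduct.isBaseChange R B₂ A₁⟩
  haveI := hsq
  have hbig : Algebra.IsPushout R A₂ A₁ (A₁ ⊗[R] A₂) := by
    refine Algebra.IsPushout.symm ?_
    exact ⟨TensorProduct.isBaseChange R A₂ A₁⟩
  have h := (Algebra.IsPushout.comp_iff (R := R) (S := B₂) (R' := A₁) (S' := A₁ ⊗[R] B₂)
    (T := A₂) (T' := A₁ ⊗[R] A₂)).1 hbig
  exact push_of _ _ _ _ _ rfl rfl rfl rfl h.symm

theorem push₀ : Push (algebraMap R B₂) (algebraMap R A₁) (incR (R := R) A₁ B₂) (incL (R := R) A₁ B₂)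
    (RingHom.ext fun r => ((Algebra.TensorProduct.includeRight : B₂ →ₐ[R] A₁ ⊗[R] B₂).commutes r).trans rfl) := by
  letI : Algebra B₂ (A₁ ⊗[R] B₂) := (incR (R := R) A₁ B₂).toAlgebra
  haveI : IsScalarTower R B₂ (A₁ ⊗[R] B₂) := IsScalarTower.of_algebraMap_eq fun r =>
    ((Algebra.TensorProduct.includeRight : B₂ →ₐ[R] A₁ ⊗[R] B₂).commutes r).symm
  have h : Algebra.IsPushout R A₁ B₂ (A₁ ⊗[R] B₂) := ⟨TensorProduct.isBaseChange R B₂ A₁⟩
  exact push_of _ _ _ _ _ rfl rfl rfl rfl h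

/-- Tor amplitude of an external tensor product over a base over which the second factor is flat. -/
theorem ta_extern [Module.Flat R A₂] [Module.Flat R B₂] (j : B₁ ⊗[R] B₂ →+* B) (hj : j.Flat)
    (hepi : ∀ (S : Type u) [CommRing S] (φ ψ : B →+* S), φ.comp j = ψ.comp j → φ = ψ)
    (ι : A₁ ⊗[R] A₂ →+* A) (hι : ι.Flat) (θ : B →+* A) (hθ : θ.comp j = (ι.comp νMap).comp μMap)
    (χ₁ : A₁ →+* A) (h₁ : ι.comp (incL (R := R) A₁ A₂) = χ₁)
    (χ₂ : A₂ →+* A) (h₂ : ι.comp (incR (R := R) A₁ A₂) = χ₂)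
    (E₁ : DRing.Cx A₁) (hE₁ : DRing.IsKFlat A₁ E₁) {a₁ b₁ : ℤ}
    (ht₁ : TA a₁ b₁ ((QA B₁).obj (resCx (algebraMap B₁ A₁) E₁)))
    (E₂ : DRing.Cx A₂) (hE₂ : DRing.IsKFlat A₂ E₂) {a₂ b₂ : ℤ}
    (ht₂ : TA a₂ b₂ ((QA B₂).obj (resCx (algebraMap B₂ A₂) E₂))) :
    TA (a₁ + a₂) (b₁ + b₂) ((QA B).obj (resCx θ (extCx χ₂ E₂ ⊗ extCx χ₁ E₁))) := by
  have hflat₀ : (incL (R := R) B₁ B₂).Flat := by
    exact RingHom.flat_algebraMap_iff.2 (inferInstance : Module.Flat B₁ (B₁ ⊗[R] B₂))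
  -- the first factor
  have hX1 : TA a₁ b₁ ((QA _).obj (resCx μMap (extCx (incL (R := R) A₁ B₂) E₁))) :=
    TA.of_iso (ta_ext_of_flat _ hflat₀ _ ht₁)
      ((QA _).mapIso (bcCxIso (algebraMap B₁ A₁) (incL (R := R) B₁ B₂) (incL (R := R) A₁ B₂) μMap sq₁ push₁ E₁))
  -- the second factor
  have hA₂ : (algebraMap R A₂).Flat := RingHom.flat_algebraMap_iff.2 inferInstance
  have hB₂ : (algebraMap R B₂).Flat := RingHom.flat_algebraMap_iff.2 inferInstance
  obtain ⟨eR⟩ := resCx_comp (algebraMap R B₂) (algebraMap B₂ A₂) (algebraMap R A₂)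
    (IsScalarTower.algebraMap_eq R B₂ A₂).symm E₂
  have hX2 : TA a₂ b₂ ((QA _).obj (resCx νMap (extCx (incR (R := R) A₁ A₂) E₂))) :=
    TA.of_iso (ta_ext_of_kflat_base (algebraMap R B₂) (algebraMap R A₁) (incR (R := R) A₁ B₂)
      (incL (R := R) A₁ B₂) _ push₀ hB₂ _ (isKFlat_of_iso eR.symm (isKFlat_resCx _ hA₂ hE₂)) ht₂)
      ((QA _).mapIso (bcCxIso (algebraMap B₂ A₂) (incR (R := R) A₁ B₂) (incR (R := R) A₁ A₂) νMap sq₂ push₂ E₂))
  have hQ : TA (0 + a₂) (0 + b₂) ((QA _).obj (resCx (ι.comp νMap) (extCx χ₂ E₂))) :=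
    (ta_res_ext νMap ι (ι.comp νMap) rfl _ (ta_res_unit_of_flat ι hι) (isKFlat_extendScalars (φ := incR (R := R) A₁ A₂) (K := E₂) hE₂)
      hX2).of_iso ((QA _).mapIso ((DRing.restrictCx (ι.comp νMap)).mapIso (extCompIso _ ι χ₂ h₂ E₂).symm))
  have hχ : (ι.comp νMap).comp (incL (R := R) A₁ B₂) = χ₁ := by
    rw [← h₁]
    exact RingHom.ext fun x => congrArg ι (ν_left x)
  have hT := ta_res_tensor_ext μMap (ι.comp νMap) (θ.comp j) hθ.symm (extCx χ₂ E₂)
    (extCx (incL (R := R) A₁ B₂) E₁) hQ (isKFlat_extendScalars (φ := incL (R := R) A₁ B₂) (K := E₁) hE₁) hX1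
  obtain ⟨e⟩ := resCx_comp j θ (θ.comp j) rfl (extCx χ₂ E₂ ⊗ extCx χ₁ E₁)
  refine ta_of_res_epi j hj hepi _ ?_
  exact ((hT.of_iso ((QA _).mapIso ((DRing.restrictCx (θ.comp j)).mapIso
    (MonoidalCategory.whiskerLeftIso _ (extCompIso _ _ χ₁ hχ E₁).symm)))).of_iso ((QA _).mapIso e.symm)).mono
    (by omega) (by omega)

end Extern

end Groth.Agent.TorStalk41
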