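import Groth.Agent.TorStalk41.Algebra
import Groth.Agent.DCK91.KFlatStalk
import Groth.Agent.DCK91.TorFlat

/-!
Complexes of stalks in the derived category; stalkwise tor amplitude against flat amplitude.
-/

set_option autoImplicit false
set_option linter.style.haveILetI false
set_option linter.unusedSectionVars false

noncomputable section

universe u

open CategoryTheory CategoryTheory.Limits AlgebraicGeometry
open Groth.Agent.DR39 Groth.Agent.DCK91

attribute [local instance] HasDerivedCategory.standard

namespace Groth.Agent.TorStalk41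

variable {X Y : Scheme.{u}} (f : X ⟶ Y) (x : X)

/-- Stalks over the base. -/
abbrev SO : X.Modules ⥤ ModuleCat.{u} (Y.presheaf.stalk (f.base x)) := DerSch.stalkOver f x

instance : (SO f x).Additive := inferInstanceAs (DCK91.SP x ⋙ ModuleCat.restrictScalars (f.stalkMap x).hom).Additive

instance : (SO f x).PreservesHomology := by
  haveI : (ModuleCat.restrictScalars.{u} (f.stalkMap x).hom).PreservesHomology :=
    Functor.preservesHomology_of_preservesMonos_and_cokernels _
  haveI : PreservesFiniteLimits (DCK91.SP x) := Functor.preservesFiniteLimits_of_preservesHomology _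
  haveI : PreservesFiniteColimits (DCK91.SP x) := Functor.preservesFiniteColimits_of_preservesHomology _
  haveI : PreservesFiniteLimits (ModuleCat.restrictScalars.{u} (f.stalkMap x).hom) :=
    Functor.preservesFiniteLimits_of_preservesHomology _
  haveI : PreservesFiniteColimits (ModuleCat.restrictScalars.{u} (f.stalkMap x).hom) :=
    Functor.preservesFiniteColimits_of_preservesHomology _
  haveI : PreservesFiniteLimits (SO f x) := comp_preservesFiniteLimits (DCK91.SP x) _
  haveI : PreservesFiniteColimits (SO f x) := comp_preservesFiniteColimits (DCK91.SP x) _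
  infer_instance

instance : PreservesFiniteLimits (SO f x) := Functor.preservesFiniteLimits_of_preservesHomology _

instance : PreservesFiniteColimits (SO f x) := Functor.preservesFiniteColimits_of_preservesHomology _

/-- The complex of stalks over the base. -/
abbrev SOc : CochainComplex X.Modules ℤ ⥤ DRing.Cx (Y.presheaf.stalk (f.base x)) := DerSch.stalkCxOver f x

lemma SOc_eq (F : CochainComplex X.Modules ℤ) :
    (SOc f x).obj F = resCx (f.stalkMap x).hom ((DCK91.SPc x).obj F) := rfl

/-- Isomorphisms in `D(O_X)` give isomorphisms of complexes of stalks. -/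
theorem nonempty_stalk_iso {F F' : CochainComplex X.Modules ℤ} (e : DCoh.toD X F ≅ DCoh.toD X F') :
    Nonempty (DRing.toD ((SOc f x).obj F) ≅ DRing.toD ((SOc f x).obj F')) :=
  ⟨((SO f x).mapDerivedCategoryFactors.app F).symm ≪≫ (SO f x).mapDerivedCategory.mapIso e ≪≫
    (SO f x).mapDerivedCategoryFactors.app F'⟩

theorem hasTorAmplitudeAt_congr {a b : ℤ} {F F' : CochainComplex X.Modules ℤ}
    (e : DCoh.toD X F ≅ DCoh.toD X F') (h : DerSch.HasTorAmplitudeAt f a b F x) :
    DerSch.HasTorAmplitudeAt f a b F' x := by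
  obtain ⟨e'⟩ := nonempty_stalk_iso f x e
  exact TA.of_iso h e'

theorem hasTorAmplitude_congr {a b : ℤ} {F F' : CochainComplex X.Modules ℤ}
    (e : DCoh.toD X F ≅ DCoh.toD X F') (h : DerSch.HasTorAmplitude f a b F) :
    DerSch.HasTorAmplitude f a b F' := fun x => hasTorAmplitudeAt_congr f x e (h x)

/-- To check the all-representatives predicate, one representative suffices. -/
theorem hasTorAmplitudeD_of_rep {a b : ℤ} {K : DCoh.D X} (F : CochainComplex X.Modules ℤ)
    (e : DCoh.toD X F ≅ K) (h : DerSch.HasTorAmplitude f a b F) : DerSch.HasTorAmplitudeD f a b K :=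
  fun _ ⟨e'⟩ => hasTorAmplitude_congr f (e ≪≫ e'.symm) h

theorem hasTorAmplitudeAt_mono {a b a' b' : ℤ} {F : CochainComplex X.Modules ℤ} (ha : a' ≤ a) (hb : b ≤ b')
    (h : DerSch.HasTorAmplitudeAt f a b F x) : DerSch.HasTorAmplitudeAt f a' b' F x :=
  TA.mono h ha hb

/-- Restriction of scalars along a flat map preserves flatness. -/
theorem flat_restrictScalars {A B : Type u} [CommRing A] [CommRing B] (φ : A →+* B) (hφ : φ.Flat)
    (M : ModuleCat.{u} B) (hM : Module.Flat B M) :
    Module.Flat A ((ModuleCat.restrictScalars φ).obj M) := by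
  letI : Algebra A B := φ.toAlgebra
  letI : Module A M := Module.compHom M φ
  haveI : IsScalarTower A B M := ⟨fun a b m => by
    show (φ a * b) • m = φ a • b • m
    rw [mul_smul]⟩
  haveI : Module.Flat A B := hφ
  haveI := hM
  exact Module.Flat.trans A B M

/-- Flat amplitude gives stalkwise tor amplitude along a morphism with flat stalk maps. -/
theorem hasTorAmplitude_of_flatAmp (hf : ∀ x : X, (f.stalkMap x).hom.Flat) {a b : ℤ}
    {F : CochainComplex X.Modules ℤ} (h : DCoh.HasFlatAmplitudeIn a b (DCoh.toD X F)) :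
    DerSch.HasTorAmplitude f a b F := by
  obtain ⟨P, hPv, hP, ⟨e⟩⟩ := h
  refine hasTorAmplitude_congr f e fun x => ?_
  exact ⟨(SOc f x).obj P, fun i hi => (SO f x).map_isZero (hPv i hi),
    fun i => flat_restrictScalars _ (hf x) ((DCK91.SP x).obj (P.X i)) (hP i x), ⟨Iso.refl _⟩⟩

lemma stalkMap_id_hom (x : X) : ((𝟙 X : X ⟶ X).stalkMap x).hom = RingHom.id _ := by
  simp
  rfl

theorem flat_of_restrict_id {A : Type u} [CommRing A] (φ : A →+* A) (hφ : φ = RingHom.id A)
    (M : ModuleCat.{u} A) (h : Module.Flat A ((ModuleCat.restrictScalars φ).obj M)) : Module.Flat A M := by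
  subst hφ
  exact h

/-- Stalkwise tor amplitude over the local rings of the scheme gives flat amplitude. -/
theorem flatAmp_of_hasTorAmplitude_id {a b : ℤ} {F : CochainComplex X.Modules ℤ}
    (h : DerSch.HasTorAmplitude (𝟙 X) a b F) : DCoh.HasFlatAmplitudeIn a b (DCoh.toD X F) := by
  have hz : ∀ i, (i < a ∨ b < i) → IsZero (F.homology i) := by
    intro i hi
    refine DCK91.isZero_of_stalks fun x => isZero_of_isZero_restrict ((𝟙 X : X ⟶ X).stalkMap x).hom _ ?_
    refine IsZero.of_iso ?_ ((F.sc i).mapHomologyIso (SO (𝟙 X) x)).symm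
    refine (isZero_HF_Q_iff ((SOc (𝟙 X) x).obj F) i).1 ?_
    rcases hi with hi | hi
    · exact TA.isZero_low (h x) i hi
    · exact TA.acyc (h x) i (by omega)
  haveI : F.IsLE b := (CochainComplex.isLE_iff _ _).2 fun i hi =>
    (HomologicalComplex.exactAt_iff_isZero_homology _ _).2 (hz i (Or.inr hi))
  obtain ⟨P, c, hPb, hPf, hc⟩ := exists_flat_res_le (O := X.sheaf) F b ‹_›
  let P' : CochainComplex X.Modules ℤ := P
  let e : DCoh.toD X P' ≅ DCoh.toD X F :=
    @asIso _ _ _ _ (DerivedCategory.Q.map (C := CochainComplex X.Modules ℤ) c)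
      ((DerivedCategory.isIso_Q_map_iff_quasiIso X.Modules c).2 hc)
  have hfl : ∀ i, FlatMod.IsFlat (P'.X i) := fun i => flatMod_of_isFlat _ (hPf i)
  have hP : DerSch.HasTorAmplitude (𝟙 X) a b P' := hasTorAmplitude_congr _ e.symm h
  have hid : ∀ x : X, ((𝟙 X : X ⟶ X).stalkMap x).hom.Flat := fun x => by
    rw [stalkMap_id_hom]; exact RingHom.Flat.id _
  have hco : FlatMod.IsFlat (cokernel (P'.d (a - 1) a)) := by
    intro x
    let S := (SOc (𝟙 X) x).obj P'
    have hS : ∀ i, Module.Flat _ (S.X i) := fun i =>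
      flat_restrictScalars _ (hid x) ((DCK91.SP x).obj (P'.X i)) (hfl i x)
    have hlow : LowEx S a := TA.lowEx (hP x)
      (isKFlat_of_flat b (fun i hi => (SO (𝟙 X) x).map_isZero (hPb i hi)) hS) (Iso.refl _)
    haveI := hS a
    have h1 := flat_coker S a fun M => exT_of_lowEx hlow M (by omega)
    let e1 : (SO (𝟙 X) x).obj (cokernel (P'.d (a - 1) a)) ≅
        ModuleCat.of _ ((S.X a) ⧸ LinearMap.range (S.d (a - 1) a).hom) :=
      (PreservesCokernel.iso (SO (𝟙 X) x) _) ≪≫
        IsColimit.coconePointUniqueUpToIso (cokernelIsCokernel _) (ModuleCat.cokernelIsColimit (S.d (a - 1) a))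
    have h2 := Module.Flat.of_linearEquiv e1.toLinearEquiv
    exact flat_of_restrict_id (A := X.presheaf.stalk x) _ (stalkMap_id_hom x)
      ((DCK91.SP x).obj (cokernel (P'.d (a - 1) a))) h2
  haveI : P'.IsGE a := (CochainComplex.isGE_iff _ _).2 fun i hi => by
    haveI := hc.quasiIsoAt i
    exact (HomologicalComplex.exactAt_iff_isZero_homology _ _).2
      ((hz i (Or.inl hi)).of_iso (isoOfQuasiIsoAt c i))
  refine ⟨P'.truncGE a, fun i hi => ?_, fun i => ?_,
    ⟨(asIso (DerivedCategory.Q.map (P'.πTruncGE a))).symm ≪≫ e⟩⟩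
  · rcases hi with hi | hi
    · exact CochainComplex.isZero_of_isStrictlyGE (P'.truncGE a) a i hi
    · haveI : P'.IsStrictlyLE b := (CochainComplex.isStrictlyLE_iff _ _).2 hPb
      exact CochainComplex.isZero_of_isStrictlyLE (P'.truncGE a) b i hi
  · rcases lt_trichotomy i a with hlt | heq | hgt
    · exact flatMod_of_isFlat _ (Mod48.isFlat_of_isZero (O := X.sheaf)
        (CochainComplex.isZero_of_isStrictlyGE (P'.truncGE a) a i hlt))
    · subst heq
      exact flatMod_of_isFlat _ (Mod48.isFlat_of_iso (O := X.sheaf)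
        (CochainComplex.truncGEXIsoOpcycles P' i ≪≫ (P'.opcyclesIsCokernel (i - 1) i
          ((ComplexShape.up ℤ).prev_eq' (sub_add_cancel i 1))).coconePointUniqueUpToIso (cokernelIsCokernel _)).symm
        (isFlat_of_flatMod _ hco))
    · exact flatMod_of_isFlat _ (Mod48.isFlat_of_iso (O := X.sheaf) (CochainComplex.truncGEXIso P' a i hgt).symm (hPf i))

end Groth.Agent.TorStalk41
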