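import Groth.Agent.TorStalk41.StalkProd

/-!
Stalkwise tor amplitude of external tensor products and of flat base changes.
-/

set_option autoImplicit false
set_option linter.style.haveILetI false
set_option linter.unusedSectionVars false

noncomputable section

universe u

open CategoryTheory CategoryTheory.Limits AlgebraicGeometry MonoidalCategory

attribute [local instance] HasDerivedCategory.standard

namespace Groth.Agent.TorStalk41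

open Groth.Agent.DR39 Groth.Agent.DCK91

/-- Extension of scalars of the unit complex. -/
def extUnitIso {A B : Type u} [CommRing A] [CommRing B] (χ : A →+* B) :
    extCx χ (𝟙_ (DRing.Cx A)) ≅ 𝟙_ (DRing.Cx B) :=
  (HomologicalComplex.singleMapHomologicalComplex (ModuleCat.extendScalars.{u, u, u} χ) (ComplexShape.up ℤ) 0).app
      (ModuleCat.of A A) ≪≫
    (HomologicalComplex.single _ (ComplexShape.up ℤ) 0).mapIso
      (letI := χ.toAlgebra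
       (LinearEquiv.toModuleIso (X₁ := (ModuleCat.extendScalars.{u, u, u} χ).obj (ModuleCat.of A A)) (X₂ := B)
        (TensorProduct.AlgebraTensorModule.rid A B B) :
          (ModuleCat.extendScalars.{u, u, u} χ).obj (ModuleCat.of A A) ≅ ModuleCat.of B B))

theorem isKFlat_unit (A : Type u) [CommRing A] : DRing.IsKFlat A (𝟙_ (DRing.Cx A)) := fun M hM i =>
  (hM i).of_iso ((HomologicalComplex.homologyFunctor _ _ i).mapIso (ρ_ M))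

/-- Restriction of scalars on isomorphisms in the derived category. -/
theorem nonempty_res_iso {A B : Type u} [CommRing A] [CommRing B] (φ : A →+* B) {U V : DRing.Cx B}
    (e : (QA B).obj U ≅ (QA B).obj V) : Nonempty ((QA A).obj (resCx φ U) ≅ (QA A).obj (resCx φ V)) :=
  ⟨(restrictDIso φ U).symm ≪≫ (DRing.restrictD φ).mapIso e ≪≫ restrictDIso φ V⟩

variable {X : Scheme.{u}}

/-- Isomorphisms in `D(O_X)` on complexes of stalks over the local rings of `X`. -/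
theorem nonempty_SP_iso (x : X) {F F' : CochainComplex X.Modules ℤ} (e : DCoh.toD X F ≅ DCoh.toD X F') :
    Nonempty (DRing.toD ((DCK91.SPc x).obj F) ≅ DRing.toD ((DCK91.SPc x).obj F')) := by
  haveI : (DCK91.SP x).Additive := inferInstanceAs (DerSch.stalkFunctor X x).Additive
  haveI : PreservesFiniteLimits (DCK91.SP x) := Functor.preservesFiniteLimits_of_preservesHomology _
  haveI : PreservesFiniteColimits (DCK91.SP x) := Functor.preservesFiniteColimits_of_preservesHomology _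
  exact ⟨((DCK91.SP x).mapDerivedCategoryFactors.app F).symm ≪≫ (DCK91.SP x).mapDerivedCategory.mapIso e ≪≫
    (DCK91.SP x).mapDerivedCategoryFactors.app F'⟩

/-- External tensor products, second factor flat. -/
theorem hasTorAmplitudeD_extern {S X₁ Y₁ X₂ Y₂ X Y : Scheme.{u}} (f₁ : X₁ ⟶ Y₁) (q₁ : Y₁ ⟶ S)
    (f₂ : X₂ ⟶ Y₂) (q₂ : Y₂ ⟶ S) [Flat q₂] [Flat (f₂ ≫ q₂)]
    (pX₁ : X ⟶ X₁) (pX₂ : X ⟶ X₂) (hX : IsPullback pX₁ pX₂ (f₁ ≫ q₁) (f₂ ≫ q₂))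
    (pY₁ : Y ⟶ Y₁) (pY₂ : Y ⟶ Y₂) (hY : IsPullback pY₁ pY₂ q₁ q₂)
    (f : X ⟶ Y) (hf₁ : f ≫ pY₁ = pX₁ ≫ f₁) (hf₂ : f ≫ pY₂ = pX₂ ≫ f₂)
    {E₁ : CochainComplex X₁.Modules ℤ} {a₁ b₁ : ℤ} (h₁ : DerSch.HasTorAmplitude f₁ a₁ b₁ E₁)
    {E₂ : CochainComplex X₂.Modules ℤ} {a₂ b₂ : ℤ} (h₂ : DerSch.HasTorAmplitude f₂ a₂ b₂ E₂)
    [DCoh.HasLpull pX₁] [DCoh.HasLpull pX₂] (K₂ : CochainComplex X.Modules ℤ) [DCoh.HasLTensorCx K₂]
    (eK : DCoh.toD X K₂ ≅ (DCoh.Lpull pX₂).obj (DCoh.toD X₂ E₂)) :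
    DerSch.HasTorAmplitudeD f (a₁ + a₂) (b₁ + b₂)
      ((DCoh.LTensorCx K₂).obj ((DCoh.Lpull pX₁).obj (DCoh.toD X₁ E₁))) := by
  obtain ⟨P₁, hP₁, ⟨e₁⟩⟩ := exists_kflat_rep E₁
  obtain ⟨P₂, hP₂, ⟨e₂⟩⟩ := exists_kflat_rep E₂
  obtain ⟨l₁⟩ := nonempty_lpullIso pX₁ P₁ hP₁
  obtain ⟨l₂⟩ := nonempty_lpullIso pX₂ P₂ hP₂
  obtain ⟨t⟩ := nonempty_ltensorIso K₂ _ (isKFlat_pullback pX₁ P₁ hP₁)
  refine hasTorAmplitudeD_of_rep _ _
    (t.symm ≪≫ (DCoh.LTensorCx K₂).mapIso (l₁.symm ≪≫ (DCoh.Lpull pX₁).mapIso e₁)) fun x => ?_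
  have hta := ta_extern_stalk f₁ q₁ f₂ q₂ pX₁ pX₂ hX pY₁ pY₂ hY f hf₁ hf₂ x _ (isKFlat_stalk hP₁ (pX₁ x))
    (hasTorAmplitude_congr f₁ e₁.symm h₁ (pX₁ x)) _ (isKFlat_stalk hP₂ (pX₂ x))
    (hasTorAmplitude_congr f₂ e₂.symm h₂ (pX₂ x))
  obtain ⟨k⟩ := nonempty_SP_iso x (eK ≪≫ (DCoh.Lpull pX₂).mapIso e₂.symm ≪≫ l₂)
  obtain ⟨k'⟩ := nonempty_tensor_iso (k ≪≫ (QA _).mapIso (stalkPullCxIso pX₂ x P₂).symm)
    (isKFlat_extendScalars (φ := (pX₁.stalkMap x).hom) (K := (DCK91.SPc (pX₁ x)).obj P₁) (isKFlat_stalk hP₁ _))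
  obtain ⟨s⟩ := stalkTotIso x (((Scheme.Modules.pullback pX₁).mapHomologicalComplex (ComplexShape.up ℤ)).obj P₁) K₂
  obtain ⟨r⟩ := nonempty_res_iso (f.stalkMap x).hom (k'.symm ≪≫ (QA _).mapIso
    (MonoidalCategory.whiskerLeftIso _ (stalkPullCxIso pX₁ x P₁) ≪≫ asIso (symm' _ _) ≪≫ s))
  exact TA.of_iso hta r

/-- The tor dimension of a product of morphisms, second factor flat. -/
theorem hasTorDimLE_prod {S X₁ Y₁ X₂ Y₂ X Y : Scheme.{u}} (f₁ : X₁ ⟶ Y₁) (q₁ : Y₁ ⟶ S)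
    (f₂ : X₂ ⟶ Y₂) (q₂ : Y₂ ⟶ S) [Flat q₂] [Flat (f₂ ≫ q₂)]
    (pX₁ : X ⟶ X₁) (pX₂ : X ⟶ X₂) (hX : IsPullback pX₁ pX₂ (f₁ ≫ q₁) (f₂ ≫ q₂))
    (pY₁ : Y ⟶ Y₁) (pY₂ : Y ⟶ Y₂) (hY : IsPullback pY₁ pY₂ q₁ q₂)
    (f : X ⟶ Y) (hf₁ : f ≫ pY₁ = pX₁ ≫ f₁) (hf₂ : f ≫ pY₂ = pX₂ ≫ f₂)
    {n₁ n₂ : ℕ} (h₁ : DerSch.HasTorDimLE f₁ n₁) (h₂ : DerSch.HasTorDimLE f₂ n₂) :
    DerSch.HasTorDimLE f (n₁ + n₂) := fun x => by
  have hta := ta_extern_stalk f₁ q₁ f₂ q₂ pX₁ pX₂ hX pY₁ pY₂ hY f hf₁ hf₂ x _ (isKFlat_unit _)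
    (ta_unit_of_hasTorDimLE h₁ (pX₁ x)) _ (isKFlat_unit _) (ta_unit_of_hasTorDimLE h₂ (pX₂ x))
  exact TA.mono (hta.of_iso ((QA _).mapIso ((DRing.restrictCx (f.stalkMap x).hom).mapIso
    (MonoidalCategory.tensorIso (extUnitIso _) (extUnitIso _) ≪≫ λ_ _ ≪≫ (stalkUnitCxIso x).symm))))
    (by push_cast; omega) (by omega)

/-- Tor amplitude under flat base change. -/
theorem hasTorAmplitudeD_baseChange {X Y Y' : Scheme.{u}} (f : X ⟶ Y) (h : Y' ⟶ Y) [Flat h]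
    [DCoh.HasLpull (pullback.fst f h)] {F : CochainComplex X.Modules ℤ} {a b : ℤ}
    (hF : DerSch.HasTorAmplitude f a b F) :
    DerSch.HasTorAmplitudeD (pullback.snd f h) a b ((DCoh.Lpull (pullback.fst f h)).obj (DCoh.toD X F)) := by
  obtain ⟨P, hP, ⟨e⟩⟩ := exists_kflat_rep F
  obtain ⟨l⟩ := nonempty_lpullIso (pullback.fst f h) P hP
  refine hasTorAmplitudeD_of_rep _ _ (l.symm ≪≫ (DCoh.Lpull _).mapIso e) fun x => ?_
  haveI : Flat (𝟙 Y' ≫ h) := by rw [Category.id_comp]; infer_instance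
  have hid : TA 0 0 ((QA _).obj (resCx ((𝟙 Y' : Y' ⟶ Y').stalkMap (pullback.snd f h x)).hom (𝟙_ _))) :=
    ta_res_unit_of_flat _ (Flat.stalkMap (𝟙 Y') _)
  have hta := ta_extern_stalk f (𝟙 Y) (𝟙 Y') h (pullback.fst f h) (pullback.snd f h)
    (by simpa using IsPullback.of_hasPullback f h) h (𝟙 Y') (IsPullback.of_vert_isIso ⟨by simp⟩)
    (pullback.snd f h) pullback.condition.symm rfl x _ (isKFlat_stalk hP _)
    (hasTorAmplitude_congr f e.symm hF _) _ (isKFlat_unit _) hid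
  exact TA.mono (hta.of_iso ((QA _).mapIso ((DRing.restrictCx ((pullback.snd f h).stalkMap x).hom).mapIso
    (MonoidalCategory.tensorIso (extUnitIso _) (Iso.refl _) ≪≫ λ_ _ ≪≫ stalkPullCxIso (pullback.fst f h) x P))))
    (by omega) (by omega)

end Groth.Agent.TorStalk41
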