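import Groth.Agent.TorStalk41.ExternApply

/-!
Cohomological bounds of external tensor products, first factor of finite tor amplitude over a flat base.
-/

set_option autoImplicit false
set_option linter.style.haveILetI false
set_option linter.unusedSectionVars false

noncomputable section

universe u

open CategoryTheory CategoryTheory.Limits AlgebraicGeometry MonoidalCategory
open scoped TensorProduct

attribute [local instance] HasDerivedCategory.standard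

namespace Groth.Agent.TorStalk41

open Groth.Agent.DR39 Groth.Agent.DCK91

section Alg

variable {R A₁ A₂ A : Type u} [CommRing R] [CommRing A₁] [CommRing A₂] [CommRing A] [Algebra R A₁] [Algebra R A₂]

theorem pushU : Push (algebraMap R A₁) (algebraMap R A₂) (incL (R := R) A₁ A₂) (incR (R := R) A₁ A₂)
    (RingHom.ext fun r => (((Algebra.TensorProduct.includeLeft : A₁ →ₐ[R] A₁ ⊗[R] A₂).commutes r).trans
      ((Algebra.TensorProduct.includeRight : A₂ →ₐ[R] A₁ ⊗[R] A₂).commutes r).symm)) := by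
  letI : Algebra A₂ (A₁ ⊗[R] A₂) := (incR (R := R) A₁ A₂).toAlgebra
  haveI : IsScalarTower R A₂ (A₁ ⊗[R] A₂) := IsScalarTower.of_algebraMap_eq fun r =>
    ((Algebra.TensorProduct.includeRight : A₂ →ₐ[R] A₁ ⊗[R] A₂).commutes r).symm
  have h : Algebra.IsPushout R A₂ A₁ (A₁ ⊗[R] A₂) := by
    refine Algebra.IsPushout.symm ?_
    exact ⟨TensorProduct.isBaseChange R A₂ A₁⟩
  exact push_of _ _ _ _ _ rfl rfl rfl rfl h

/-- The cohomology of an external tensor product lies in the sum of the windows. -/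
theorem isZero_extern [Module.Flat R A₁] (ι : A₁ ⊗[R] A₂ →+* A) (hι : ι.Flat)
    (χ₁ : A₁ →+* A) (h₁ : ι.comp (incL (R := R) A₁ A₂) = χ₁)
    (χ₂ : A₂ →+* A) (h₂ : ι.comp (incR (R := R) A₁ A₂) = χ₂)
    (E₁ : DRing.Cx A₁) (hE₁ : DRing.IsKFlat A₁ E₁) {a₁ b₁ : ℤ}
    (ht₁ : TA a₁ b₁ ((QA R).obj (resCx (algebraMap R A₁) E₁)))
    (E₂ : DRing.Cx A₂) {a₂ b₂ : ℤ} (ht₂ : ∀ j, (j < a₂ ∨ b₂ < j) → IsZero (E₂.homology j))
    (i : ℤ) (hi : i < a₁ + a₂ ∨ b₁ + b₂ < i) :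
    IsZero ((extCx χ₁ E₁ ⊗ extCx χ₂ E₂).homology i) := by
  let P : DRing.Cx R := resCx (algebraMap R A₁) E₁
  let W : DRing.Cx R := resCx (algebraMap R A₂) E₂
  have hP : DRing.IsKFlat R P := isKFlat_resCx _ (RingHom.flat_algebraMap_iff.2 inferInstance) hE₁
  have hWP : IsZero ((W ⊗ P).homology i) := by
    obtain ⟨F, hFv, hF, ⟨e⟩⟩ := ht₁
    haveI := SF.isKProjective_res W
    have hW' : DRing.IsKFlat R (SF.res W) := isKFlat_of_isKProjective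
    haveI := quasiIso_whiskerRight hP (SF.aug W)
    obtain ⟨t⟩ := nonempty_tensor_homology_iso e hW' i
    refine ((((isZero_tensor_of_window F _ a₁ b₁ a₂ b₂ hFv hF (fun j hj => ?_) i hi).of_iso t.symm).of_iso
      ((HomologicalComplex.homologyFunctor _ _ i).mapIso (asIso (symm' (SF.res W) P)))).of_iso
      (isoOfQuasiIsoAt (SF.aug W ▷ P) i).symm)
    exact ((isZero_res_homology_iff _ _ _).2 (ht₂ j hj)).of_iso (isoOfQuasiIsoAt (SF.aug W) j)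
  -- over the tensor product
  let U₁ : DRing.Cx (A₁ ⊗[R] A₂) := extCx (incL (R := R) A₁ A₂) E₁
  let U₂ : DRing.Cx (A₁ ⊗[R] A₂) := extCx (incR (R := R) A₁ A₂) E₂
  have hY : IsZero ((U₁ ⊗ U₂).homology i) := by
    refine (isZero_res_homology_iff (incR (R := R) A₁ A₂) _ i).1 ?_
    refine IsZero.of_iso ((isZero_res_homology_iff (algebraMap R A₂) (E₂ ⊗ extCx (algebraMap R A₂) P) i).1
      (hWP.of_iso ((HomologicalComplex.homologyFunctor _ _ i).mapIso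
        (asIso (jCx (algebraMap R A₂) E₂ P)).symm))) ?_
    exact (HomologicalComplex.homologyFunctor _ _ i).mapIso
      ((asIso (jCx (incR (R := R) A₁ A₂) U₁ E₂)).symm ≪≫
        MonoidalCategory.whiskerRightIso (bcCxIso _ _ _ _ _ pushU E₁).symm E₂ ≪≫ asIso (symm' _ _))
  -- to the local ring
  letI := ι.toAlgebra
  haveI : Module.Flat (A₁ ⊗[R] A₂) A := hι
  haveI := preservesFiniteLimits_extA (A := A₁ ⊗[R] A₂) A
  haveI := preservesFiniteColimits_extA (A := A₁ ⊗[R] A₂) A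
  obtain ⟨e⟩ := res_ext_tensor_iso (A := A₁ ⊗[R] A₂) (B := A) U₁ U₂
  refine IsZero.of_iso ?_ ((HomologicalComplex.homologyFunctor _ _ i).mapIso
    (MonoidalCategory.tensorIso (extCompIso _ ι χ₁ h₁ E₁) (extCompIso _ ι χ₂ h₂ E₂)))
  refine (isZero_res_homology_iff (algebraMap (A₁ ⊗[R] A₂) A) _ i).1 ?_
  refine IsZero.of_iso ?_ ((HomologicalComplex.homologyFunctor _ _ i).mapIso
    ((asIso (jCx (algebraMap (A₁ ⊗[R] A₂) A) (extCx (algebraMap (A₁ ⊗[R] A₂) A) U₁) U₂)).symm ≪≫ e))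
  exact (isZero_res_homology_iff _ _ i).2 (((extA (A₁ ⊗[R] A₂) A).map_isZero hY).of_iso
    (((U₁ ⊗ U₂).sc i).mapHomologyIso (extA (A₁ ⊗[R] A₂) A)))

end Alg

/-- External tensor products are bounded, first factor flat. -/
theorem isZero_HD_extern {S X₁ Y₁ X₂ X : Scheme.{u}} (f₁ : X₁ ⟶ Y₁) (q₁ : Y₁ ⟶ S) (r₂ : X₂ ⟶ S)
    [Flat q₁] [Flat (f₁ ≫ q₁)]
    (pX₁ : X ⟶ X₁) (pX₂ : X ⟶ X₂) (hX : IsPullback pX₁ pX₂ (f₁ ≫ q₁) r₂)
    {E₁ : CochainComplex X₁.Modules ℤ} {a₁ b₁ : ℤ} (h₁ : DerSch.HasTorAmplitude f₁ a₁ b₁ E₁)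
    {E₂ : CochainComplex X₂.Modules ℤ} {a₂ b₂ : ℤ} (h₂ : ∀ j, (j < a₂ ∨ b₂ < j) → IsZero (DCoh.HD (DCoh.toD X₂ E₂) j))
    [DCoh.HasLpull pX₁] [DCoh.HasLpull pX₂] (K₂ : CochainComplex X.Modules ℤ) [DCoh.HasLTensorCx K₂]
    (eK : DCoh.toD X K₂ ≅ (DCoh.Lpull pX₂).obj (DCoh.toD X₂ E₂)) (i : ℤ) (hi : i < a₁ + a₂ ∨ b₁ + b₂ < i) :
    IsZero (DCoh.HD ((DCoh.LTensorCx K₂).obj ((DCoh.Lpull pX₁).obj (DCoh.toD X₁ E₁))) i) := by
  obtain ⟨P₁, hP₁, ⟨e₁⟩⟩ := exists_kflat_rep E₁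
  obtain ⟨P₂, hP₂, ⟨e₂⟩⟩ := exists_kflat_rep E₂
  obtain ⟨l₁⟩ := nonempty_lpullIso pX₁ P₁ hP₁
  obtain ⟨l₂⟩ := nonempty_lpullIso pX₂ P₂ hP₂
  obtain ⟨t⟩ := nonempty_ltensorIso K₂ _ (isKFlat_pullback pX₁ P₁ hP₁)
  refine IsZero.of_iso ((DCK91.exactAt_iff_isZero_HD _ i).1 ?_)
    ((DerivedCategory.homologyFunctor X.Modules i).mapIso
      ((DCoh.LTensorCx K₂).mapIso ((DCoh.Lpull pX₁).mapIso e₁.symm ≪≫ l₁) ≪≫ t))
  rw [HomologicalComplex.exactAt_iff_isZero_homology]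
  refine isZero_of_stalks fun x => ?_
  let x₁ := pX₁ x
  let x₂ := pX₂ x
  let s := (f₁ ≫ q₁) x₁
  have hs₂ : r₂ x₂ = s := (congrArg (fun t : X ⟶ S => t x) hX.w).symm
  let R := S.presheaf.stalk s
  let A₁ := X₁.presheaf.stalk x₁
  let A₂ := X₂.presheaf.stalk x₂
  letI iRA₁ : Algebra R A₁ := ((f₁ ≫ q₁).stalkMap x₁).hom.toAlgebra
  letI iRA₂ : Algebra R A₂ := ((S.presheaf.stalkCongr (.of_eq hs₂.symm)).hom ≫ r₂.stalkMap x₂).hom.toAlgebra
  haveI : Module.Flat R A₁ := RingHom.flat_algebraMap_iff.1 (Flat.stalkMap (f₁ ≫ q₁) x₁)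
  obtain ⟨ι, hι, hιl, hιr⟩ := FlatMor66.exists_tensor_stalk_flat hX x x₁ x₂ s rfl rfl rfl hs₂
    (RingHom.ext fun r => (congrArg ((f₁ ≫ q₁).stalkMap x₁).hom (congr_refl_hom s rfl r)).symm) rfl
  have hB : TA 0 0 (Dual.inD (S.presheaf.stalk (q₁ (f₁ x₁))) ((ModuleCat.restrictScalars (q₁.stalkMap (f₁ x₁)).hom).obj
      (ModuleCat.of (Y₁.presheaf.stalk (f₁ x₁)) (Y₁.presheaf.stalk (f₁ x₁))))) :=
    haveI := flat_restrictScalars (q₁.stalkMap (f₁ x₁)).hom (Flat.stalkMap q₁ _)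
      (ModuleCat.of _ (Y₁.presheaf.stalk (f₁ x₁))) Module.Flat.self
    ta_inD_of_flat _
  have ht₁ := ta_res_comp (q₁.stalkMap (f₁ x₁)).hom (f₁.stalkMap x₁).hom ((f₁ ≫ q₁).stalkMap x₁).hom
    (by rw [Scheme.Hom.stalkMap_comp]; rfl) ((DCK91.SPc x₁).obj P₁) hB (hasTorAmplitude_congr f₁ e₁.symm h₁ x₁)
  have ht₂ : ∀ j, (j < a₂ ∨ b₂ < j) → IsZero (((DCK91.SPc x₂).obj P₂).homology j) := fun j hj =>
    DCK91.isZero_homology_map (DCK91.SP x₂) P₂ j ((HomologicalComplex.exactAt_iff_isZero_homology _ _).1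
      ((DCK91.exactAt_iff_isZero_HD P₂ j).2
        ((h₂ j hj).of_iso ((DerivedCategory.homologyFunctor X₂.Modules j).mapIso e₂))))
  have hz := isZero_extern (R := R) (A₁ := A₁) (A₂ := A₂) ι hι (pX₁.stalkMap x).hom
    (RingHom.ext fun a => (hιl a).trans (by simp [TopCat.Presheaf.stalkCongr_hom]; rfl))
    (pX₂.stalkMap x).hom
    (RingHom.ext fun a => (hιr a).trans (by simp [TopCat.Presheaf.stalkCongr_hom]; rfl))
    _ (isKFlat_stalk hP₁ x₁) (ht₁.mono (show a₁ ≤ a₁ + 0 by omega) (show b₁ + max 0 0 ≤ b₁ by simp)) _ ht₂ i hi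
  obtain ⟨k⟩ := nonempty_SP_iso x (eK ≪≫ (DCoh.Lpull pX₂).mapIso e₂.symm ≪≫ l₂)
  obtain ⟨k'⟩ := nonempty_tensor_homology_iso (k ≪≫ (QA _).mapIso (stalkPullCxIso pX₂ x P₂).symm)
    (isKFlat_extendScalars (φ := (pX₁.stalkMap x).hom) (K := (DCK91.SPc x₁).obj P₁) (isKFlat_stalk hP₁ _)) i
  obtain ⟨s'⟩ := stalkTotIso x (((Scheme.Modules.pullback pX₁).mapHomologicalComplex (ComplexShape.up ℤ)).obj P₁) K₂
  refine IsZero.of_iso (((hz.of_iso ((HomologicalComplex.homologyFunctor _ _ i).mapIso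
    (asIso (symm' (extCx (pX₂.stalkMap x).hom ((DCK91.SPc x₂).obj P₂)) _)))).of_iso k').of_iso
      ((HomologicalComplex.homologyFunctor _ _ i).mapIso
        (s'.symm ≪≫ MonoidalCategory.whiskerRightIso (stalkPullCxIso pX₁ x P₁).symm _ ≪≫ asIso (symm' _ _))))
    (((DCoh.tensorCx.obj (((Scheme.Modules.pullback pX₁).mapHomologicalComplex (ComplexShape.up ℤ)).obj P₁)).obj K₂).sc i
      |>.mapHomologyIso (DCK91.SP x)).symm

end Groth.Agent.TorStalk41
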