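import Groth.Agent.TorStalk41.ExternApply
import Groth.Agent.DCX42.Res

/-!
Tor amplitude on opens of the base, and vanishing of cohomology of the derived tensor product with pulled back modules.
-/

set_option autoImplicit false
set_option linter.style.haveILetI false
set_option linter.unusedSectionVars false

noncomputable section

universe u

open CategoryTheory CategoryTheory.Limits AlgebraicGeometry MonoidalCategory

attribute [local instance] HasDerivedCategory.standard

namespace Groth.Agent.TorStalk41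

open Groth.Agent.DR39 Groth.Agent.DCK91

/-- Restriction to an open subscheme is the derived inverse image. -/
theorem nonempty_restrict_pull_iso {U X : Scheme.{u}} (j : U ⟶ X) [IsOpenImmersion j] {P F : CochainComplex X.Modules ℤ}
    (e : DCoh.toD X P ≅ DCoh.toD X F) :
    Nonempty (DCoh.toD U (((Scheme.Modules.pullback j).mapHomologicalComplex (ComplexShape.up ℤ)).obj P) ≅
      DCoh.toD U (((Scheme.Modules.restrictFunctor j).mapHomologicalComplex (ComplexShape.up ℤ)).obj F)) := by
  haveI := DCX42.preservesFiniteLimits_restrict j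
  haveI := DCX42.preservesFiniteColimits_restrict j
  let G := Scheme.Modules.restrictFunctor j
  exact ⟨DerivedCategory.Q.mapIso ((NatIso.mapHomologicalComplex (Scheme.Modules.restrictFunctorIsoPullback j)
      (ComplexShape.up ℤ)).app P).symm ≪≫
    (G.mapDerivedCategoryFactors.app P).symm ≪≫ G.mapDerivedCategory.mapIso e ≪≫
    G.mapDerivedCategoryFactors.app F⟩

/-- Tor amplitude restricts to the inverse image of an open of the base. -/
theorem hasTorAmplitude_restrict {X Y : Scheme.{u}} (f : X ⟶ Y) (V : Y.Opens) {F : CochainComplex X.Modules ℤ}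
    {a b : ℤ} (hF : DerSch.HasTorAmplitude f a b F) :
    DerSch.HasTorAmplitude (f ∣_ V) a b ((DCoh.restrictCx (f ⁻¹ᵁ V)).obj F) := by
  obtain ⟨P, hP, ⟨e⟩⟩ := exists_kflat_rep F
  obtain ⟨r⟩ := nonempty_restrict_pull_iso (f ⁻¹ᵁ V).ι e
  refine hasTorAmplitude_congr (f ∣_ V) r fun x => ?_
  haveI : Flat (𝟙 (V : Scheme.{u}) ≫ V.ι) := by rw [Category.id_comp]; infer_instance
  have hid : TA 0 0 ((QA _).obj (DR39.resCx ((𝟙 (V : Scheme.{u}) : (V : Scheme.{u}) ⟶ V).stalkMap ((f ∣_ V) x)).hom
      (𝟙_ _))) :=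
    ta_res_unit_of_flat _ (Flat.stalkMap (𝟙 (V : Scheme.{u})) _)
  have hta := ta_extern_stalk f (𝟙 Y) (𝟙 (V : Scheme.{u})) V.ι (f ⁻¹ᵁ V).ι (f ∣_ V)
    (by simpa using (isPullback_morphismRestrict f V).flip) V.ι (𝟙 _) (IsPullback.of_vert_isIso ⟨by simp⟩)
    (f ∣_ V) (morphismRestrict_ι f V) rfl x _ (isKFlat_stalk hP _)
    (hasTorAmplitude_congr f e.symm hF _) _ (isKFlat_unit _) hid
  exact TA.mono (hta.of_iso ((QA _).mapIso ((DRing.restrictCx ((f ∣_ V).stalkMap x).hom).mapIso
    (MonoidalCategory.tensorIso (extUnitIso _) (Iso.refl _) ≪≫ λ_ _ ≪≫ stalkPullCxIso (f ⁻¹ᵁ V).ι x P))))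
    (by omega) (by omega)

/-- The derived tensor product with a pulled back module lives in the amplitude. -/
theorem isZero_HD_ltensor_Lpull_inD {X Y : Scheme.{u}} (f : X ⟶ Y) {F : CochainComplex X.Modules ℤ} {m n : ℤ}
    (hF : DerSch.HasTorAmplitude f m n F) (M : Y.Modules) [DCoh.HasLpull f] [DCoh.HasLTensorCx F]
    (i : ℤ) (hi : i < m ∨ n < i) :
    IsZero (DCoh.HD ((DCoh.LTensorCx F).obj ((DCoh.Lpull f).obj (DCoh.inD Y M))) i) := by
  let S : CochainComplex Y.Modules ℤ := (HomologicalComplex.single Y.Modules (ComplexShape.up ℤ) 0).obj M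
  let eS : DCoh.toD Y S ≅ DCoh.inD Y M :=
    ((SingleFunctors.evaluation _ _ 0).mapIso (DerivedCategory.singleFunctorsPostcompQIso Y.Modules)).symm.app M
  obtain ⟨P, hP, ⟨e⟩⟩ := exists_kflat_rep S
  obtain ⟨l⟩ := nonempty_lpullIso f P hP
  obtain ⟨t⟩ := nonempty_ltensorIso F _ (isKFlat_pullback f P hP)
  refine IsZero.of_iso ((DCK91.exactAt_iff_isZero_HD _ i).1 ?_)
    ((DerivedCategory.homologyFunctor X.Modules i).mapIso
      ((DCoh.LTensorCx F).mapIso ((DCoh.Lpull f).mapIso (e ≪≫ eS).symm ≪≫ l) ≪≫ t))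
  rw [HomologicalComplex.exactAt_iff_isZero_homology]
  refine isZero_of_stalks fun x => ?_
  have hW : ∀ j, (j < 0 ∨ 0 < j) → IsZero (((DCK91.SPc (f.base x)).obj P).homology j) := fun j hj =>
    DCK91.isZero_homology_map (DCK91.SP (f.base x)) P j ((HomologicalComplex.exactAt_iff_isZero_homology _ _).1
      ((DCK91.exactAt_iff_isZero_HD P j).2 (IsZero.of_iso ((DCK91.exactAt_iff_isZero_HD S j).1
        (ShortComplex.exact_of_isZero_X₂ _
          (HomologicalComplex.isZero_single_obj_X (ComplexShape.up ℤ) 0 M j (by omega))))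
        ((DerivedCategory.homologyFunctor Y.Modules j).mapIso e))))
  obtain ⟨G, hGv, hG, ⟨g⟩⟩ := hF x
  obtain ⟨k⟩ := nonempty_tensor_homology_iso g (isKFlat_stalk hP (f.base x)) i
  have hz : IsZero (((DCK91.SPc x).obj F ⊗ extCx (f.stalkMap x).hom ((DCK91.SPc (f.base x)).obj P)).homology i) :=
    (isZero_res_tensor_iff (f.stalkMap x).hom _ _ i).1
      ((isZero_tensor_of_window G _ m n 0 0 hGv hG hW i (by omega)).of_iso k.symm)
  obtain ⟨s⟩ := stalkTotIso x (((Scheme.Modules.pullback f).mapHomologicalComplex (ComplexShape.up ℤ)).obj P) F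
  exact IsZero.of_iso (hz.of_iso ((HomologicalComplex.homologyFunctor _ _ i).mapIso
      (s.symm ≪≫ MonoidalCategory.whiskerRightIso (stalkPullCxIso f x P).symm _ ≪≫ asIso (symm' _ _))))
    (((DCoh.tensorCx.obj (((Scheme.Modules.pullback f).mapHomologicalComplex (ComplexShape.up ℤ)).obj P)).obj F).sc i
      |>.mapHomologyIso (DCK91.SP x)).symm

end Groth.Agent.TorStalk41
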