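import Groth.Agent.DR39.ResTensor
import Groth.Agent.DR39.Restrict

/-!
Tor amplitude of tensor products over the source and of composites.
-/

set_option autoImplicit false
set_option linter.style.haveILetI false
set_option linter.unusedSectionVars false

universe u

open CategoryTheory CategoryTheory.Limits MonoidalCategory HomologicalComplex

attribute [local instance] HasDerivedCategory.standard

namespace Groth.Agent.TorStalk41

open Groth.Agent.DR39

variable {A B C : Type u} [CommRing A] [CommRing B] [CommRing C]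

/-- The tensor product of two K-flat complexes is K-flat. -/
theorem isKFlat_tensor {P R : DRing.Cx B} (hP : DRing.IsKFlat B P) (hR : DRing.IsKFlat B R) :
    DRing.IsKFlat B (P ⊗ R) := fun M hM i =>
  (hR (M ⊗ P) (fun j => hP M hM j) i).of_iso
    ((HomologicalComplex.homologyFunctor _ _ i).mapIso (α_ M P R).symm)

/-- Tensoring with a K-flat complex preserves isomorphisms in the derived category. -/
theorem nonempty_tensor_homology_iso {X Y : DRing.Cx B} (e : (QA B).obj X ≅ (QA B).obj Y)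
    {W : DRing.Cx B} (hW : DRing.IsKFlat B W) (i : ℤ) :
    Nonempty ((X ⊗ W).homology i ≅ (Y ⊗ W).homology i) := by
  haveI := SF.isKProjective_res X
  haveI : IsIso ((QA B).map (SF.aug X)) :=
    (DerivedCategory.isIso_Q_map_iff_quasiIso (ModuleCat.{u} B) _).2 inferInstance
  obtain ⟨f, hf⟩ := Q_map_surjective (SF.res X) Y ((QA B).map (SF.aug X) ≫ e.hom)
  haveI : QuasiIso f := (DerivedCategory.isIso_Q_map_iff_quasiIso (ModuleCat.{u} B) f).1 (by
    rw [hf]; infer_instance)
  haveI := quasiIso_whiskerRight hW (SF.aug X)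
  haveI := quasiIso_whiskerRight hW f
  exact ⟨(isoOfQuasiIsoAt (SF.aug X ▷ W) i).symm ≪≫ isoOfQuasiIsoAt (f ▷ W) i⟩

/-- Tor amplitudes add along a ring map: a complex of amplitude `[a, b]` over `B` tensored with a K-flat one of
amplitude `[c, d]` over `C` has amplitude `[a + c, b + d]` over `C`. -/
theorem ta_res_tensor (φ : C →+* B) (Q P : DRing.Cx B) {a b c d : ℤ} (hQ : TA a b ((QA B).obj Q))
    (hP : DRing.IsKFlat B P) (hPc : TA c d ((QA C).obj (resCx φ P))) :
    TA (a + c) (b + d) ((QA C).obj (resCx φ (Q ⊗ P))) := by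
  refine (ta_iff_resolution _ _ _).2 fun M G hv hG eG i hi => (isZero_res_tensor_iff φ _ G i).2 ?_
  have hGk : DRing.IsKFlat C G := isKFlat_of_flat 0 hv fun j => flat_of_FR (hG j)
  have hW : ∀ j, (j < c ∨ d < j) → IsZero ((P ⊗ extCx φ G).homology j) := fun j hj =>
    (isZero_res_tensor_iff φ P G j).1 ((ta_iff_resolution _ _ _).1 hPc M G hv hG eG j hj)
  obtain ⟨F, hFv, hF, ⟨e⟩⟩ := hQ
  have hWk : DRing.IsKFlat B (P ⊗ extCx φ G) :=
    isKFlat_tensor hP (isKFlat_extendScalars (φ := φ) (K := G) hGk)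
  obtain ⟨t⟩ := nonempty_tensor_homology_iso (B := B) e hWk i
  exact ((isZero_tensor_of_window F _ a b c d hFv hF hW i hi).of_iso t.symm).of_iso
    ((HomologicalComplex.homologyFunctor _ _ i).mapIso (α_ Q P (extCx φ G)))

/-- The tensor product with an extended complex, restricted along a composite. -/
theorem ta_res_tensor_ext (φ : C →+* B) (ψ : B →+* A) (χ : C →+* A) (h : ψ.comp φ = χ)
    (Q : DRing.Cx A) (P : DRing.Cx B) {a b c d : ℤ} (hQ : TA a b ((QA B).obj (resCx ψ Q)))
    (hP : DRing.IsKFlat B P) (hPc : TA c d ((QA C).obj (resCx φ P))) :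
    TA (a + c) (b + d) ((QA C).obj (resCx χ (Q ⊗ extCx ψ P))) := by
  obtain ⟨e⟩ := resCx_comp φ ψ χ h (Q ⊗ extCx ψ P)
  exact ((ta_res_tensor φ (resCx ψ Q) P hQ hP hPc).of_iso
    ((QA C).mapIso ((DRing.restrictCx φ).mapIso (asIso (jCx ψ Q P))))).of_iso ((QA C).mapIso e)

/-- Extension of scalars along a map of tor amplitude `[p, q]`. -/
theorem ta_res_ext (φ : C →+* B) (ψ : B →+* A) (χ : C →+* A) (h : ψ.comp φ = χ) (P : DRing.Cx B) {p q c d : ℤ}
    (hA : TA p q ((QA B).obj (resCx ψ (𝟙_ (DRing.Cx A))))) (hP : DRing.IsKFlat B P)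
    (hPc : TA c d ((QA C).obj (resCx φ P))) :
    TA (p + c) (q + d) ((QA C).obj (resCx χ (extCx ψ P))) :=
  (ta_res_tensor_ext φ ψ χ h _ P hA hP hPc).of_iso
    ((QA C).mapIso ((DRing.restrictCx χ).mapIso (λ_ (extCx ψ P))))

/-- Tor amplitude of a complex restricted along a composite. -/
theorem ta_res_comp (φ : C →+* B) (ψ : B →+* A) (χ : C →+* A) (h : ψ.comp φ = χ) (X : DRing.Cx A) {a b p q : ℤ}
    (hB : TA p q (Dual.inD C ((ModuleCat.restrictScalars φ).obj (ModuleCat.of B B))))
    (hX : TA a b ((QA B).obj (resCx ψ X))) :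
    TA (a + p) (b + max q 0) ((QA C).obj (resCx χ X)) := by
  obtain ⟨e⟩ := resCx_comp φ ψ χ h X
  exact ((ta_restrict φ hB hX).of_iso (restrictDIso φ (resCx ψ X))).of_iso ((QA C).mapIso e)

end Groth.Agent.TorStalk41
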