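import Groth.Agent.TorStalk41.Pull
import Groth.Agent.TorStalk41.Extern
import Groth.Agent.FlatMor66.BCStalk

/-!
Tor amplitude of external tensor products at the points of a fibre product.
-/

set_option autoImplicit false
set_option linter.style.haveILetI false
set_option linter.unusedSectionVars false

noncomputable section

universe u

open CategoryTheory CategoryTheory.Limits AlgebraicGeometry
open scoped TensorProduct

attribute [local instance] HasDerivedCategory.standard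

namespace Groth.Agent.TorStalk41

open Groth.Agent.DR39 Groth.Agent.DCK91

/-- Two stalk maps of equal morphisms agree after transport. -/
lemma congr_stalkMap {X Z : Scheme.{u}} {u v : X ⟶ Z} (huv : u = v) (x : X) {z : Z} (h₁ : u x = z) (h₂ : v x = z) :
    (Z.presheaf.stalkCongr (.of_eq h₁.symm)).hom ≫ u.stalkMap x =
      (Z.presheaf.stalkCongr (.of_eq h₂.symm)).hom ≫ v.stalkMap x := by
  subst huv
  rfl

lemma congr_refl_hom {X : Scheme.{u}} (x : X) (h : x = x) (r : X.presheaf.stalk x) :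
    (X.presheaf.stalkCongr (.of_eq h)).hom r = r := by
  simp [TopCat.Presheaf.stalkCongr_hom]

/-- Ring maps out of a stalk of a fibre product are determined on the stalks of the factors. -/
theorem stalk_hom_ext {X X' S' S : Scheme.{u}} {f : X ⟶ S} {f' : X' ⟶ S'} {g' : X' ⟶ X} {g : S' ⟶ S}
    (hc : IsPullback g' f' f g) (x' : X') {T : Type u} [CommRing T] (φ ψ : X'.presheaf.stalk x' →+* T)
    (h₁ : φ.comp (g'.stalkMap x').hom = ψ.comp (g'.stalkMap x').hom)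
    (h₂ : φ.comp (f'.stalkMap x').hom = ψ.comp (f'.stalkMap x').hom) : φ = ψ := by
  have e₀ : g (f' x') = f (g' x') := by rw [← Scheme.Hom.comp_apply, ← hc.w, Scheme.Hom.comp_apply]
  obtain ⟨_, ⟨V, hV, rfl⟩, hxV, -⟩ :=
    S.isBasis_affineOpens.exists_subset_of_mem_open (Set.mem_univ (f (g' x'))) isOpen_univ
  obtain ⟨_, ⟨U, hU, rfl⟩, hxU, eU⟩ := X.isBasis_affineOpens.exists_subset_of_mem_open hxV (f ⁻¹ᵁ V).isOpen
  obtain ⟨_, ⟨W, hW, rfl⟩, hxW, eW⟩ :=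
    S'.isBasis_affineOpens.exists_subset_of_mem_open (show f' x' ∈ g ⁻¹ᵁ V from show g (f' x') ∈ V from e₀ ▸ hxV) (g ⁻¹ᵁ V).isOpen
  let P : X'.Opens := g' ⁻¹ᵁ U ⊓ f' ⁻¹ᵁ W
  have hxP : x' ∈ P := ⟨hxU, hxW⟩
  have hP : IsAffineOpen P := by
    have : IsAffine _ := hV
    have : IsAffine _ := hU
    have : IsAffine _ := hW
    exact .of_isIso (Scheme.Hom.isPullback_resLE hc eW eU (UY := P) rfl).isoPullback.hom
  have hpush := (isIso_pushoutSection_iff hc eW eU (UY := P) rfl).mp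
    (isIso_pushoutSection_of_isAffineOpen hc eW eU (UY := P) rfl hV hW hU)
  letI : Algebra Γ(X', P) (X'.presheaf.stalk x') := X'.presheaf.algebra_section_stalk ⟨x', hxP⟩
  have := hP.isLocalization_stalk ⟨x', hxP⟩
  refine IsLocalization.ringHom_ext (hP.primeIdealOf ⟨x', hxP⟩).asIdeal.primeCompl ?_
  have key : X'.presheaf.germ P x' hxP ≫ CommRingCat.ofHom φ = X'.presheaf.germ P x' hxP ≫ CommRingCat.ofHom ψ := by
    refine hpush.hom_ext ?_ ?_
    · refine CommRingCat.hom_ext (RingHom.ext fun b => ?_)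
      show φ (X'.presheaf.germ P x' hxP (g'.appLE U P inf_le_left b)) = ψ (X'.presheaf.germ P x' hxP (g'.appLE U P inf_le_left b))
      rw [← FlatMor66.stalk_germ_appLE g' inf_le_left x' hxP b]
      exact DFunLike.congr_fun h₁ _
    · refine CommRingCat.hom_ext (RingHom.ext fun b => ?_)
      show φ (X'.presheaf.germ P x' hxP (f'.appLE W P inf_le_right b)) = ψ (X'.presheaf.germ P x' hxP (f'.appLE W P inf_le_right b))
      rw [← FlatMor66.stalk_germ_appLE f' inf_le_right x' hxP b]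
      exact DFunLike.congr_fun h₂ _
  exact congrArg CommRingCat.Hom.hom key

/-- Tor amplitude of the external tensor product at a point of a fibre product. -/
theorem ta_extern_stalk {S X₁ Y₁ X₂ Y₂ X Y : Scheme.{u}} (f₁ : X₁ ⟶ Y₁) (q₁ : Y₁ ⟶ S)
    (f₂ : X₂ ⟶ Y₂) (q₂ : Y₂ ⟶ S) [Flat q₂] [Flat (f₂ ≫ q₂)]
    (pX₁ : X ⟶ X₁) (pX₂ : X ⟶ X₂) (hX : IsPullback pX₁ pX₂ (f₁ ≫ q₁) (f₂ ≫ q₂))
    (pY₁ : Y ⟶ Y₁) (pY₂ : Y ⟶ Y₂) (hY : IsPullback pY₁ pY₂ q₁ q₂)
    (f : X ⟶ Y) (hf₁ : f ≫ pY₁ = pX₁ ≫ f₁) (hf₂ : f ≫ pY₂ = pX₂ ≫ f₂) (x : X)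
    (E₁ : DRing.Cx (X₁.presheaf.stalk (pX₁ x))) (hE₁ : DRing.IsKFlat _ E₁) {a₁ b₁ : ℤ}
    (h₁ : TA a₁ b₁ ((QA _).obj (resCx (f₁.stalkMap (pX₁ x)).hom E₁)))
    (E₂ : DRing.Cx (X₂.presheaf.stalk (pX₂ x))) (hE₂ : DRing.IsKFlat _ E₂) {a₂ b₂ : ℤ}
    (h₂ : TA a₂ b₂ ((QA _).obj (resCx (f₂.stalkMap (pX₂ x)).hom E₂))) :
    TA (a₁ + a₂) (b₁ + b₂) ((QA _).obj (resCx (f.stalkMap x).hom
      (MonoidalCategoryStruct.tensorObj (extCx (pX₂.stalkMap x).hom E₂) (extCx (pX₁.stalkMap x).hom E₁)))) := by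
  let x₁ := pX₁ x
  let x₂ := pX₂ x
  let y := f x
  let y₁ := f₁ x₁
  let y₂ := f₂ x₂
  have hy₁ : pY₁ y = y₁ := congrArg (fun t : X ⟶ Y₁ => t x) hf₁
  have hy₂ : pY₂ y = y₂ := congrArg (fun t : X ⟶ Y₂ => t x) hf₂
  let s := q₁ y₁
  have hs₂ : q₂ y₂ = s := (congrArg (fun t : X ⟶ S => t x) hX.w).symm
  let R := S.presheaf.stalk s
  let A₁ := X₁.presheaf.stalk x₁
  let A₂ := X₂.presheaf.stalk x₂
  let B₁ := Y₁.presheaf.stalk y₁
  let B₂ := Y₂.presheaf.stalk y₂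
  letI iRB₁ : Algebra R B₁ := (q₁.stalkMap y₁).hom.toAlgebra
  letI iRA₁ : Algebra R A₁ := ((f₁ ≫ q₁).stalkMap x₁).hom.toAlgebra
  letI iRB₂ : Algebra R B₂ := ((S.presheaf.stalkCongr (.of_eq hs₂.symm)).hom ≫ q₂.stalkMap y₂).hom.toAlgebra
  letI iRA₂ : Algebra R A₂ := ((S.presheaf.stalkCongr (.of_eq hs₂.symm)).hom ≫ (f₂ ≫ q₂).stalkMap x₂).hom.toAlgebra
  letI iBA₁ : Algebra B₁ A₁ := (f₁.stalkMap x₁).hom.toAlgebra
  letI iBA₂ : Algebra B₂ A₂ := (f₂.stalkMap x₂).hom.toAlgebra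
  haveI : IsScalarTower R B₁ A₁ := IsScalarTower.of_algebraMap_eq' (by
    show ((f₁ ≫ q₁).stalkMap x₁).hom = _
    rw [Scheme.Hom.stalkMap_comp]
    rfl)
  haveI : IsScalarTower R B₂ A₂ := IsScalarTower.of_algebraMap_eq' (by
    show ((S.presheaf.stalkCongr (.of_eq hs₂.symm)).hom ≫ (f₂ ≫ q₂).stalkMap x₂).hom = _
    rw [Scheme.Hom.stalkMap_comp]
    rfl)
  haveI : Module.Flat R A₂ := RingHom.flat_algebraMap_iff.1
    (RingHom.Flat.comp (RingHom.Flat.of_bijective (ConcreteCategory.bijective_of_isIso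
      (S.presheaf.stalkCongr (.of_eq hs₂.symm)).hom)) (Flat.stalkMap (f₂ ≫ q₂) x₂))
  haveI : Module.Flat R B₂ := RingHom.flat_algebraMap_iff.1
    (RingHom.Flat.comp (RingHom.Flat.of_bijective (ConcreteCategory.bijective_of_isIso
      (S.presheaf.stalkCongr (.of_eq hs₂.symm)).hom)) (Flat.stalkMap q₂ y₂))
  obtain ⟨j, hj, hjl, hjr⟩ := FlatMor66.exists_tensor_stalk_flat hY y y₁ y₂ s hy₁ hy₂ rfl hs₂
    (by simp [RingHom.algebraMap_toAlgebra, iRB₁, TopCat.Presheaf.stalkCongr_hom]; rfl) rfl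
  obtain ⟨ι, hι, hιl, hιr⟩ := FlatMor66.exists_tensor_stalk_flat hX x x₁ x₂ s rfl rfl rfl hs₂
    (by simp [RingHom.algebraMap_toAlgebra, iRA₁, TopCat.Presheaf.stalkCongr_hom]; rfl) rfl
  refine ta_extern (R := R) (A₁ := A₁) (A₂ := A₂) (B₁ := B₁) (B₂ := B₂) j hj ?_ ι hι (f.stalkMap x).hom ?_
    (pX₁.stalkMap x).hom ?_ (pX₂.stalkMap x).hom ?_ E₁ hE₁ h₁ E₂ hE₂ h₂
  · intro T _ φ ψ h
    refine stalk_hom_ext hY y φ ψ (RingHom.ext fun b => ?_) (RingHom.ext fun b => ?_)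
    · obtain ⟨b, rfl⟩ := (ConcreteCategory.bijective_of_isIso
        (Y₁.presheaf.stalkCongr (.of_eq hy₁.symm)).hom).2 b
      have := DFunLike.congr_fun h (b ⊗ₜ[R] (1 : B₂))
      rw [RingHom.comp_apply, RingHom.comp_apply, hjl] at this
      exact this
    · obtain ⟨b, rfl⟩ := (ConcreteCategory.bijective_of_isIso
        (Y₂.presheaf.stalkCongr (.of_eq hy₂.symm)).hom).2 b
      have := DFunLike.congr_fun h ((1 : B₁) ⊗ₜ[R] b)
      rw [RingHom.comp_apply, RingHom.comp_apply, hjr] at this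
      exact this
  · have e₁ : (Y₁.presheaf.stalkCongr (.of_eq hy₁.symm)).hom ≫ pY₁.stalkMap y ≫ f.stalkMap x =
        f₁.stalkMap x₁ ≫ pX₁.stalkMap x := by
      rw [← Scheme.Hom.stalkMap_comp, ← Scheme.Hom.stalkMap_comp]
      exact (congr_stalkMap hf₁ x hy₁ rfl).trans (by simp [TopCat.Presheaf.stalkCongr_hom]; rfl)
    have e₂ : (Y₂.presheaf.stalkCongr (.of_eq hy₂.symm)).hom ≫ pY₂.stalkMap y ≫ f.stalkMap x =
        f₂.stalkMap x₂ ≫ pX₂.stalkMap x := by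
      rw [← Scheme.Hom.stalkMap_comp, ← Scheme.Hom.stalkMap_comp]
      exact (congr_stalkMap hf₂ x hy₂ rfl).trans (by simp [TopCat.Presheaf.stalkCongr_hom]; rfl)
    refine RingHom.ext fun z => ?_
    induction z using TensorProduct.induction_on with
    | zero => simp
    | add a b ha hb => simp only [map_add, ha, hb]
    | tmul b c =>
      rw [show b ⊗ₜ[R] c = (b ⊗ₜ[R] (1 : B₂)) * ((1 : B₁) ⊗ₜ[R] c) by simp, map_mul, map_mul]
      simp only [RingHom.comp_apply, μ_left, μ_right, ν_left, ν_right, hjl, hjr, hιl, hιr]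
      have h1 := congrArg (fun t : B₁ ⟶ X.presheaf.stalk x => t.hom b) e₁
      have h2 := congrArg (fun t : B₂ ⟶ X.presheaf.stalk x => t.hom c) e₂
      simp only [CommRingCat.hom_comp, RingHom.comp_apply, congr_refl_hom] at h1 h2 ⊢
      refine congrArg₂ (· * ·) ((congrArg (f.stalkMap x).hom (hjl b)).trans ?_)
        ((congrArg (f.stalkMap x).hom (hjr c)).trans ?_)
      · refine h1.trans ((congrArg (pX₁.stalkMap x).hom ?_).trans (hιl _).symm)
        exact (congr_refl_hom _ rfl _).symm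
      · refine h2.trans ((congrArg (pX₂.stalkMap x).hom ?_).trans (hιr _).symm)
        exact (congr_refl_hom _ rfl _).symm
  · refine RingHom.ext fun a => (hιl a).trans ?_
    simp [TopCat.Presheaf.stalkCongr_hom]
    rfl
  · refine RingHom.ext fun a => (hιr a).trans ?_
    simp [TopCat.Presheaf.stalkCongr_hom]
    rfl

end Groth.Agent.TorStalk41
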